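import Cfsg.Agent.H172.TH.Ten
import Cfsg.Agent.H989.Cov.Twelve

/-!
# S3938: the row `PΩ^-_12(2)` (helper172)
-/

set_option autoImplicit false
set_option linter.unusedSectionVars false

namespace Cfsg.Agent.H172.TH

open Module Cfsg Cfsg.Geo
open Cfsg.Agent.LieClassical.OrthCore Cfsg.Agent.LieClassical.OrthForms
open Cfsg.Agent.LieClassical.OmegaReindex (reindexForm isometryGroupReindex)
open Cfsg.Agent.H182.Sign Cfsg.Agent.H403.Classify
open Cfsg.Agent.H278.Cov (Red Ext)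
open Cfsg.Agent.H383.Cov
open Cfsg.Agent.H424.Spr (Spr)
open Cfsg.Agent.H989.Cov (ResM ResP Cas Zd exists_el blk_of_mul bn_of bn_13 mul_case not_dvd_of res_order card_aut_l33
  cases_minus cases_plus dec_kill nondeg_form not_plus_of_sg)
open scoped MatrixGroups Matrix

variable {F : Type} [Field F] [Fintype F]

/-- `neg 6` of order 65 -/
theorem mS (hF : Fintype.card F = 2) {Q : QuadraticForm F (Fin 12 → F)} (hQ : Sg Q 6 (-1)) :
    ∃ A : GL (Fin 12) F, A ∈ omegaGL ⇑Q ∧ orderOf A = 65 ∧ orderOf (A ^ 5) = 13 ∧ Blk 12 (A ^ 5) ∧ Dims A {0, 12} := by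
  obtain ⟨L, _, _, _, Q', u, s1, s2, s3, s4, s5⟩ := exists_negN (F := F) (k := 6) (N := 65) (by norm_num)
    (by rw [hF]; norm_num)
  have hfL : FiniteDimensional F L := Module.Finite.of_finite
  obtain ⟨A, hA, e, he, -⟩ := exists_el hQ (by rw [Fintype.card_fin]; norm_num) s1
    (x := LinearMap.mulLeft F u) (M := 65) s5 (by decide) (by rw [mulLeft_pow, mulLeft_eq_one, ← s3, pow_orderOf_eq_one])
  have hsim : Sim A (LinearMap.mulLeft F u) := ⟨e, he⟩
  have hsim5 : Sim (A ^ 5) (LinearMap.mulLeft F (u ^ 5)) := by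
    have h := hsim.pow 5
    rwa [mulLeft_pow] at h
  have hu5 : orderOf (u ^ 5) = 13 := by
    rw [orderOf_pow_of_dvd (by norm_num) (by rw [s3]; norm_num), s3]
  obtain ⟨h1, h2⟩ := blk_of_mul (bn_of hF bn_13) hu5 s2 hsim5
  refine ⟨A, hA, ?_, h1, h2, hsim.dims fun W hW => ?_⟩
  · rw [hsim.orderOf_eq, orderOf_mulLeft, s3]
  · exact mul_case s3 s2 s4 (not_dvd_of hF _ _ (by intro j h1 h2; interval_cases j <;> norm_num)) hW

/-- no permutation of 13 letters has order 65 -/
theorem perm_65 (σ : Equiv.Perm (Fin 13)) : orderOf σ ≠ 65 := by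
  intro h
  have h1 : 13 ∣ σ.cycleType.lcm := by rw [Equiv.Perm.lcm_cycleType, h]; norm_num
  have h2 : 5 ∣ σ.cycleType.lcm := by rw [Equiv.Perm.lcm_cycleType, h]; norm_num
  have key : ∀ (s : Multiset ℕ) (p : ℕ), p.Prime → p ∣ s.lcm → ∃ a ∈ s, p ∣ a := by
    intro s p hp
    induction s using Multiset.induction_on with
    | empty => intro h; rw [Multiset.lcm_zero] at h; exact absurd (Nat.dvd_one.1 h) hp.one_lt.ne'
    | cons a s ih =>
      intro h
      rw [Multiset.lcm_cons] at h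
      rcases (Nat.Prime.dvd_mul hp).1 (h.trans (Nat.lcm_dvd_mul _ _)) with h | h
      · exact ⟨a, Multiset.mem_cons_self _ _, h⟩
      · obtain ⟨b, hb, hd⟩ := ih h
        exact ⟨b, Multiset.mem_cons_of_mem hb, hd⟩
  obtain ⟨a, ha, had⟩ := key _ 13 (by norm_num) h1
  obtain ⟨b, hb, hbd⟩ := key _ 5 (by norm_num) h2
  have hsum : σ.cycleType.sum ≤ 13 := by
    rw [Equiv.Perm.sum_cycleType]
    exact (Finset.card_le_univ _).trans (by rw [Fintype.card_fin])
  have ha2 := Equiv.Perm.two_le_of_mem_cycleType ha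
  have hb2 := Equiv.Perm.two_le_of_mem_cycleType hb
  have ha13 : a ≤ 13 := (Multiset.le_sum_of_mem ha).trans hsum
  have ha11 : a = 13 := by omega
  have hne : b ≠ a := by
    rintro rfl
    omega
  obtain ⟨s, hs⟩ := Multiset.exists_cons_of_mem ha
  rw [hs, Multiset.mem_cons] at hb
  have hb' := hb.resolve_left hne
  have h3 := Multiset.le_sum_of_mem hb'
  rw [hs, Multiset.sum_cons] at hsum
  omega

theorem res_65 (hF : Fintype.card F = 2) {H P : Subgroup (GL (Fin 12) F)} (hc : IsResidualCore H P)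
    (h : Nonempty ((P ⧸ (scalars (Fin 12) F).subgroupOf P) ≃* Matrix.ProjectiveSpecialLinearGroup (Fin 3) (ZMod 3)) ∨
        Nonempty ((P ⧸ (scalars (Fin 12) F).subgroupOf P) ≃* alternatingGroup (Fin 13))) {x : GL (Fin 12) F}
    (hx : x ∈ H) (hx65 : orderOf x = 65) : False := by
  rcases h with ⟨⟨e⟩⟩ | ⟨⟨e⟩⟩
  · obtain ⟨y, hy⟩ := res_order hF hc e hx
    have h1 := (orderOf_dvd_natCard y).trans card_aut_l33
    rw [hy, hx65] at h1
    norm_num at h1
  · obtain ⟨y, hy⟩ := res_order hF hc e hx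
    obtain ⟨σ, rfl⟩ := (S2119.result 13 (by norm_num) (by norm_num)).2 y
    rw [orderOf_injective _ (S2119.result 13 (by norm_num) (by norm_num)).1] at hy
    exact perm_65 σ (hy.trans hx65)

/-- **`PΩ⁻₁₂(2)`.** -/
theorem spr_minus_twelve (hF : Fintype.card F = 2) {a b : F}
    (hab : ∀ z₁ z₂ : F, z₁ ^ 2 + a * z₁ * z₂ + b * z₂ ^ 2 = 0 → z₁ = 0 ∧ z₂ = 0)
    (hres : ∀ Q : QuadraticForm F (Fin 12 → F), Sg Q 6 (-1) → ResM ⇑Q) :
    Spr (POmega F (quadFormMinus 5 F a b)) := by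
  have hsim : IsSimpleGroup (POmega F (quadFormMinus 5 F a b)) := S0297.result (F := F) 6 (by norm_num) a b hab
  let e : (Fin 5 ⊕ Fin 5) ⊕ Fin 2 ≃ Fin 12 := Fintype.equivFinOfCardEq (by simp)
  have hs : Sg (reindexForm e (minusForm 5 F a b)) 6 (-1) := by
    refine (sg_minusForm (F := F) 5 hab).congr (LinearEquiv.funCongrLeft F F e.symm) fun v => ?_
    rw [LieClassical.OmegaReindex.reindexForm_apply]
    congr 1
    funext i
    simp [LinearEquiv.funCongrLeft, LinearMap.funLeft]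
  generalize hQe : reindexForm e (minusForm 5 F a b) = Q at hs
  have hj : ∀ x, quadFormMinus 5 F a b (LinearEquiv.funCongrLeft F F e x) = Q x := by
    intro x
    rw [← hQe, ← coe_minusForm]
    rfl
  have hn : Fintype.card (Fin 12) = 12 := Fintype.card_fin 12
  have hQ := nondeg_form hs.nondeg
  have hm := not_plus_of_sg hs
  obtain ⟨A, hA, oA, oA5, bA, dA⟩ := mS hF hs
  obtain ⟨C, hC, zC, -, -⟩ := H989.Cov.mC hF hs
  have hirr := irr_of_dims dA (by
    intro d hd
    rw [hn]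
    simpa using hd)
  refine spr_irr (LinearEquiv.funCongrLeft F F e) hj (hna_minus (m := 6) (by norm_num) hab) hA hirr
    (r₁ := 2) (r₂ := 3) (by rw [oA]; decide) (by rw [oA]; decide) ?_ ?_
  · intro H hle hne hsH
    obtain ⟨M, hM, hHM⟩ := H905.exists_isMaximalIn_of_lt (lt_of_le_of_ne hle hne)
    rcases cases_minus hF hQ hm hM with (h | ⟨t, m, D, ht, hm', hD, h⟩ | ⟨r, K, hr, hK, h⟩) | h
    · obtain ⟨W, h0, h1, hW⟩ := h
      exfalso
      rcases hirr W (fun v hv => (hW (hHM hsH) v).1 hv) with h | h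
      · exact h0 h
      · exact h1 h
    · exfalso
      exact dec_kill hD ((decompositionStabilizer D).pow_mem (h (hHM hsH)) 5) (by rw [oA5]; norm_num)
        (by rw [oA5]; omega) bA (by omega)
    · exact ⟨r, K, hr, hK, hHM.trans h⟩
    · obtain ⟨P, hP, h2⟩ := hres Q hs M hM h
      exact (res_65 hF hP h2 (hHM hsH) oA).elim
  · intro r E hr hE hle
    obtain ⟨j, h1, P, h2⟩ := zC
    have h3 := kill hE ((subalgebraNormalizer E).pow_mem (hle hC) j) (by rw [h1]; rcases hr with rfl | rfl <;> norm_num) P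
    rw [h2] at h3
    rcases hr with rfl | rfl <;> norm_num at h3

end Cfsg.Agent.H172.TH
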