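import Cfsg.Agent.H172.TH.Core
import Cfsg.Agent.H172.TH.TwelveM
import Cfsg.Agent.H604.Spr.Plus

/-!
# S3938: the row `PΩ^+_12(2)` (helper172)
-/

set_option autoImplicit false
set_option linter.unusedSectionVars false

namespace Cfsg.Agent.H172.TH

open Module Cfsg Cfsg.Geo
open Cfsg.Agent.LieClassical.OrthCore Cfsg.Agent.LieClassical.OrthForms Cfsg.Agent.LieClassical.OrthTrans
open Cfsg.Agent.LieClassical.OmegaReindex (reindexForm isometryGroupReindex)
open Cfsg.Agent.H182.Sign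
open Cfsg.Agent.H278.Cov (Red Ext)
open Cfsg.Agent.H383.Cov
open Cfsg.Agent.H424.Spr (Spr)
open Cfsg.Agent.H989.Cov (ResP Cas cases_plus dec_kill fld_kill nondeg_form plus_of_sg pN bn_11)
open Cfsg.Agent.H172.TH.Core (El Ovs)
open scoped MatrixGroups Matrix

variable {F : Type} [Field F] [Fintype F] {ι κ : Type} [Fintype ι] [DecidableEq ι] [Fintype κ] [DecidableEq κ]

theorem good_congr {V W : Type*} [AddCommGroup V] [Module F V] [AddCommGroup W] [Module F W]
    {Q : QuadraticForm F V} {Q' : QuadraticForm F W} (hG : Good Q) (j : V ≃ₗ[F] W) (hj : ∀ x, Q' (j x) = Q x) :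
    Good Q' := by
  have hp : ∀ x y, QuadraticMap.polar Q' (j x) (j y) = QuadraticMap.polar Q x y := by
    intro x y
    rw [QuadraticMap.polar, QuadraticMap.polar, ← map_add, hj, hj, hj]
  refine ⟨?_, ?_, ?_, ?_⟩
  · intro x hx
    obtain ⟨x, rfl⟩ := j.surjective x
    have h1 : x = 0 := hG.nondeg x fun y => by rw [← hp]; exact hx _
    rw [h1, map_zero]
  · rw [← LinearEquiv.finrank_eq j]
    exact hG.dim
  · obtain ⟨x, hx, hx0⟩ := hG.sing
    exact ⟨j x, fun h => hx ((LinearEquiv.map_eq_zero_iff j).1 h), by rw [hj, hx0]⟩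
  · intro x y hxy
    obtain ⟨x, rfl⟩ := j.surjective x
    obtain ⟨y, rfl⟩ := j.surjective y
    obtain ⟨w, hw, hw0, h1, h2⟩ := hG.perp x y ⟨by rw [← hj]; exact hxy.1, by rw [← hj]; exact hxy.2,
      by rw [← hp]; exact hxy.3⟩
    exact ⟨j w, fun h => hw ((LinearEquiv.map_eq_zero_iff j).1 h), by rw [hj, hw0], by rw [hp, h1], by rw [hp, h2]⟩

theorem spr_congr_form {Q : (ι → F) → F} {Q' : (κ → F) → F} (j : (ι → F) ≃ₗ[F] (κ → F)) (hj : ∀ x, Q' (j x) = Q x)
    (h : Spr (POmega F Q)) : Spr (POmega F Q') := by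
  obtain ⟨e0⟩ := LieClassical.OrthFourCommon.exists_isometryGroup_equiv j Q Q' hj
  obtain ⟨e1⟩ := LieClassical.OrthFourCommon.exists_isometryGroup_equiv (LinearEquiv.refl F (κ → F)) Q' Q'
    (fun v => rfl)
  obtain ⟨e2⟩ := ClassicalGeometry.OddInvolutions.commutator_quot_center_congr (e0.trans e1.symm)
  exact Spr.congr e2 h

/-- **elements `neg a + neg e`** -/
theorem spr_of_ovs {Q : QuadraticForm F (ι → F)} (hG : Good Q) (h9 : 9 ≤ Fintype.card ι) {A : GL ι F}
    (hA : A ∈ omegaGL ⇑Q) (og : Ovs ⇑Q A) {a e i : ℕ} (hn : Fintype.card ι = 2 * a + 2 * e) (he : 1 ≤ e) (hae : e < a)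
    (ha : 4 ≤ a) (hAi : El a (A ^ i)) (dA : Dims A {0, 2 * e, 2 * a, Fintype.card ι}) : Spr (POmega F ⇑Q) := by
  have hne : Nonempty ι := Fintype.card_pos_iff.1 (by omega)
  intro α hα1
  exact Core.spr_core hG og hA hn he hae ha hAi dA
    (AutOrth.Main.ind_of_no_four hG (by omega) (fun h => absurd h (by omega)) α) hα1

theorem red_mono {H M : Subgroup (GL ι F)} (h : H ≤ M) (hM : Red M) : Red H := by
  obtain ⟨W, h0, h1, h2⟩ := hM
  exact ⟨W, h0, h1, h.trans h2⟩

/-- the overgroups of `neg 5 + neg 1` in `Ω^+_12(2)` -/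
theorem ovs_twelve (hF : Fintype.card F = 2) {Q : QuadraticForm F (Fin 12 → F)} (hs : Sg Q 6 1) (hres : ResP ⇑Q)
    {A : GL (Fin 12) F} {j : ℕ} (h1 : orderOf (A ^ j) = 11) (h2 : Blk 10 (A ^ j)) : Ovs ⇑Q A := by
  intro γ _ H hle hne hγH
  have hQ := nondeg_form hs.nondeg
  have hp := plus_of_sg hs
  obtain ⟨M, hM, hHM⟩ := H905.exists_isMaximalIn_of_lt (lt_of_le_of_ne hle hne)
  have hx : γ * A ^ j * γ⁻¹ ∈ M := by
    have := M.pow_mem (hHM hγH) j
    rwa [conj_pow] at this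
  have ho : orderOf (γ * A ^ j * γ⁻¹) = 11 := by rw [orderOf_conj, h1]
  rcases (cases_plus hF hQ hp hM).resolve_right (hres M hM) with h | ⟨t, m, D, ht, hm', hD, h⟩ | ⟨r, K, hr, hK, h⟩
  · exact Or.inl (red_mono hHM h)
  · exfalso
    exact dec_kill hD (h hx) (by rw [ho]; norm_num) (by rw [ho]; omega) (h2.conj γ) (by omega)
  · rcases hr with rfl | rfl
    · exact Or.inr ⟨K, hK, hHM.trans h⟩
    · exfalso
      exact fld_kill hK (h hx) (by rw [ho]; norm_num) (by rw [(h2.conj γ).rk]; norm_num)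

/-- **`PΩ⁺₁₂(2)`.** -/
theorem spr_plus_twelve (hF : Fintype.card F = 2) (hres : ∀ Q : QuadraticForm F (Fin 12 → F), Sg Q 6 1 → ResP ⇑Q) :
    Spr (POmega F (quadFormPlus 6 F)) := by
  let e : Fin 6 ⊕ Fin 6 ≃ Fin 12 := Fintype.equivFinOfCardEq (by simp)
  have hs : Sg (reindexForm e (plusForm 6 F)) 6 1 := by
    refine (sg_plusForm (F := F) 6).congr (LinearEquiv.funCongrLeft F F e.symm) fun v => ?_
    rw [LieClassical.OmegaReindex.reindexForm_apply]
    congr 1
    funext i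
    simp [LinearEquiv.funCongrLeft, LinearMap.funLeft]
  have hG : Good (reindexForm e (plusForm 6 F)) := by
    refine good_congr (H604.Spr.good_plusForm (m := 6) (by norm_num)) (LinearEquiv.funCongrLeft F F e.symm) fun v => ?_
    rw [LieClassical.OmegaReindex.reindexForm_apply]
    congr 1
    funext i
    simp [LinearEquiv.funCongrLeft, LinearMap.funLeft]
  generalize hQe : reindexForm e (plusForm 6 F) = Q at hs hG
  have hj : ∀ x, quadFormPlus 6 F (LinearEquiv.funCongrLeft F F e x) = Q x := by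
    intro x
    rw [← hQe, ← coe_plusForm]
    rfl
  refine spr_congr_form (LinearEquiv.funCongrLeft F F e) hj ?_
  obtain ⟨A, hA, ⟨i, a1, a2⟩, a3, -⟩ := pN hF hs (a := 5) (b := 1) (M := 11) (N := 3) (by norm_num) (by norm_num)
    (by norm_num) (by norm_num) (by norm_num) (by decide) (by decide) (by norm_num) bn_11
    (by intro j h1 h2; interval_cases j <;> norm_num) (by intro j h1 h2; interval_cases j; norm_num)
  have hn : Fintype.card (Fin 12) = 12 := Fintype.card_fin 12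
  refine spr_of_ovs hG (by omega) hA (ovs_twelve hF hs (hres Q hs) a1 a2) (a := 5) (e := 1) (i := i) (by omega)
    (by norm_num) (by norm_num) (by norm_num) ⟨a2, by rw [a1]; decide⟩ ?_
  intro W hW
  have := a3 W hW
  rw [hn]
  simp only [Set.mem_ofPred_eq, Set.mem_insert_iff, Set.mem_singleton_iff] at this ⊢
  omega

end Cfsg.Agent.H172.TH
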