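import Cfsg.Agent.H172.TH.FourRes
import Cfsg.Agent.H172.TH.PlusA
import Cfsg.Agent.H800.Fif.NoOrd55

/-!
# S3938: the row `PΩ⁺₁₄(2)` (helper172)

* `res_kill` : no proper residual subgroup of `Ω⁺₁₄(2)` contains elements of order 165;
* `ovs_fourteen`, `spr_plus_fourteen`.
-/

set_option autoImplicit false
set_option linter.unusedSectionVars false

namespace Cfsg.Agent.H172.TH

open Module Cfsg Cfsg.Geo
open Cfsg.Agent.OrdDiv
open Cfsg.Agent.H172.Cov (okX outX out_dvd_X)
open Cfsg.Agent.H25.Cov (NoOrd Pr nP14 lP14 prOf noOrd_alt noOrd_alt3 noOrd_realPsl noOrd_realPsp noOrd_realPlus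
  noOrd_realMinus noOrd_suz pr11 pr5' pr11_4 pr5_4')
open scoped MatrixGroups Matrix

variable {F : Type} [Field F] [Fintype F] {ι : Type} [Fintype ι] [DecidableEq ι]

theorem noFF : NoFF where
  m11 := H800.Fif.noOrd_m11
  m12 := H800.Fif.noOrd_m12
  m22 := H800.Fif.noOrd_m22
  mcl := H800.Fif.noOrd_mcl
  hs := H800.Fif.noOrd_hs
  l2 := H800.Fif.noOrd_psl211
  u5 := by
    rw [mul_comm 5 11]
    exact noOrd_realPsu (q := 2) (d₁ := 5) (d₂ := 2) (prOf (by norm_num) (by decide +kernel))
      (prOf (by norm_num) (by decide +kernel)) (by decide) (by decide)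
  u6 := by
    rw [mul_comm 5 11]
    exact noOrd_realPsu (q := 2) (d₁ := 5) (d₂ := 2) (prOf (by norm_num) (by decide +kernel))
      (prOf (by norm_num) (by decide +kernel)) (by decide) (by decide)

/-- the names with a small outer automorphism group -/
theorem cands_ok : ((cands lP14 nP14).all fun g => g == .psl 2 127 || (g == .psl 2 32 && outX g == 5 && okX g) ||
    (okX g && Nat.gcd 55 (outX g) == 1)) = true := by
  decide +kernel

/-- **no residual overgroups** -/
theorem res_kill (tab : OrderTable.{0}) (known : H257.El.Known.{0}) (hF : Fintype.card F = 2)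
    {Q : (ι → F) → F} (hQc : Nat.card (omegaGL Q) = nP14) {H : Subgroup (GL ι F)} (hle : H ≤ omegaGL Q)
    (hne : H ≠ omegaGL Q) {A : GL ι F} (hA : A ∈ H) (ho : orderOf A = 165) (hres : InOrthogonalResidualClass H) :
    False := by
  obtain ⟨P, hc, -⟩ := hres
  have hS := hc.simple
  have hbot := H989.Cov.scalars_bot (ι := ι) hF
  have h0 : (scalars ι F).subgroupOf P = ⊥ := by rw [hbot, Subgroup.bot_subgroupOf]
  have e1 : P ≃* (P ⧸ (scalars ι F).subgroupOf P) := ((QuotientGroup.quotientBot (G := P)).symm.trans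
    (QuotientGroup.quotientMulEquivOfEq h0.symm))
  have hna : ¬ ∀ a b : P ⧸ (scalars ι F).subgroupOf P, a * b = b * a := fun h => hc.nonabelian ⟨⟨h⟩⟩
  have hPc : Nat.card (P ⧸ (scalars ι F).subgroupOf P) = Nat.card P := (Nat.card_congr e1.toEquiv).symm
  have hPH : Nat.card P ∣ Nat.card H := Subgroup.card_dvd_of_le hc.le
  have hHn : Nat.card H ∣ nP14 := by rw [← hQc]; exact Subgroup.card_dvd_of_le hle
  have hn0 : 0 < nP14 := by unfold nP14; norm_num
  have hHne : Nat.card H ≠ nP14 := by
    intro h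
    apply hne
    exact Subgroup.eq_of_le_of_card_ge hle (by rw [h, hQc])
  have hPne : Nat.card P ≠ nP14 := by
    intro h
    rw [h] at hPH
    exact hHne (Nat.dvd_antisymm hHn hPH)
  have hfin : Finite (P ⧸ (scalars ι F).subgroupOf P) := inferInstance
  obtain ⟨g, hg, hre, hgc⟩ := exists_good tab (known (P ⧸ (scalars ι F).subgroupOf P)) hna (l := lP14) (N := nP14)
    (by decide +kernel) (by rw [hPc]; exact hPH.trans hHn)
  have h1 := List.all_eq_true.1 cands_ok g hg
  simp only [Bool.or_eq_true, Bool.and_eq_true, beq_iff_eq] at h1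
  rcases h1 with (rfl | ⟨⟨rfl, hout⟩, hok⟩) | ⟨hok, hcop⟩
  · obtain ⟨y, hy⟩ := H989.Cov.res_order hF hc (MulEquiv.refl (P ⧸ (scalars ι F).subgroupOf P)) hA
    exact aut_psl127 hre y (hy.trans ho)
  · obtain ⟨y, hy⟩ := H989.Cov.res_order hF hc (MulEquiv.refl (P ⧸ (scalars ι F).subgroupOf P)) hA
    have hcard : Nat.card (P ⧸ (scalars ι F).subgroupOf P) = 32736 := by rw [hgc]; decide +kernel
    have h2 := out_dvd_X tab hna _ hok hre
    rw [hout] at h2
    obtain ⟨K, _, _, hK, ⟨e⟩⟩ := hre
    exact no_aut hna hcard (syl_psl32 hK e hcard) h2 y (hy.trans ho)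
  · -- elements of order 55 in the core
    have h3 : orderOf (A ^ 3) = 55 := by rw [orderOf_pow' A (by norm_num), ho]; decide
    obtain ⟨z, hz⟩ := ord_core tab hF hc (H.pow_mem hA 3) hna hok hre (by rw [h3]; exact hcop)
    rw [h3] at hz
    have h4 : 55 ∣ ordN g := by rw [← hgc, ← hz]; exact orderOf_dvd_natCard z
    have h5 : g ∈ H257.El.surv nP14 lP14 11 [5] := by
      refine List.mem_filter.2 ⟨hg, ?_⟩
      unfold H257.El.okG
      have h6 : 11 ∣ ordN g := dvd_trans (by norm_num) h4
      have h7 : 5 ∣ ordN g := dvd_trans (by norm_num) h4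
      have h8 : ordN g ≠ nP14 := by rw [← hgc, hPc]; exact hPne
      simp [Nat.mod_eq_zero_of_dvd h6, Nat.mod_eq_zero_of_dvd h7, h8]
    have key : NoOrd.{0} g (5 * 11) → False := fun hno => hno _ hre z (by rw [hz])
    have key' : NoOrd.{0} g (11 * 5) → False := fun hno => hno _ hre z (by rw [hz])
    have key3 : (∃ n, g = .alt n) → NoOrd.{0} g (3 * 5 * 11) → False := by
      rintro ⟨n, rfl⟩ hno
      obtain ⟨z', hz'⟩ := ord_core tab hF hc hA hna hok hre (by
        rw [ho]
        show Nat.Coprime 165 4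
        norm_num)
      exact hno _ hre z' (by rw [hz', ho])
    rw [surv_list] at h5
    simp only [List.mem_cons, List.not_mem_nil, or_false] at h5
    rcases h5 with rfl | rfl | rfl | rfl | rfl | rfl | rfl | rfl | rfl | rfl | rfl | rfl | rfl | rfl | rfl | rfl | rfl |
      rfl | rfl | rfl | rfl | rfl | rfl | rfl
    · exact key (noOrd_alt (by norm_num) (by norm_num) (by norm_num) (by norm_num))
    · exact key (noOrd_alt (by norm_num) (by norm_num) (by norm_num) (by norm_num))
    · exact key (noOrd_alt (by norm_num) (by norm_num) (by norm_num) (by norm_num))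
    · exact key (noOrd_alt (by norm_num) (by norm_num) (by norm_num) (by norm_num))
    · exact key (noOrd_alt (by norm_num) (by norm_num) (by norm_num) (by norm_num))
    · exact key3 ⟨_, rfl⟩ (noOrd_alt3 (by norm_num) (by norm_num) (by norm_num) (by norm_num) (by norm_num) (by norm_num)
        (by norm_num))
    · exact key3 ⟨_, rfl⟩ (noOrd_alt3 (by norm_num) (by norm_num) (by norm_num) (by norm_num) (by norm_num) (by norm_num)
        (by norm_num))
    · exact key3 ⟨_, rfl⟩ (noOrd_alt3 (by norm_num) (by norm_num) (by norm_num) (by norm_num) (by norm_num) (by norm_num)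
        (by norm_num))
    · exact key' (noOrd_realPsl pr11_4 pr5_4' (by decide) (by decide))
    · exact key' (noOrd_realPsl pr11_4 pr5_4' (by decide) (by decide))
    · exact key noFF.l2
    · exact key' (noOrd_realPsp pr11 pr5' (by decide) (by decide))
    · exact key' (noOrd_realPsp pr11 pr5' (by decide) (by decide))
    · exact key noFF.u5
    · exact key noFF.u6
    · exact key' (noOrd_realPlus (k := 1) one_ne_zero pr11 pr5' (by decide) (by decide))
    · exact key' (noOrd_realMinus (k := 1) one_ne_zero pr11 pr5' (by norm_num) (by decide) (by decide))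
    · exact key' (noOrd_realMinus (k := 1) one_ne_zero pr11 pr5' (by norm_num) (by decide) (by decide))
    · exact key noFF.m11
    · exact key noFF.m12
    · exact key noFF.m22
    · exact key noFF.mcl
    · exact key noFF.hs
    · exact key noOrd_suz

open Cfsg.Agent.LieClassical.OrthCore Cfsg.Agent.LieClassical.OrthForms Cfsg.Agent.LieClassical.OrthTrans
open Cfsg.Agent.H182.Sign
open Cfsg.Agent.H278.Cov (Red Ext)
open Cfsg.Agent.H383.Cov
open Cfsg.Agent.H424.Spr (Spr)
open Cfsg.Agent.H989.Cov (fld_kill nondeg_form)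
open Cfsg.Agent.H172.TH.Core (El Ovs)

/-- the overgroups of `neg 5 + neg 2` in `Ω^+_14(2)` -/
theorem ovs_fourteen (tab : OrderTable.{0}) (known : H257.El.Known.{0}) (hF : Fintype.card F = 2)
    {Q : QuadraticForm F (ι → F)} (hι : Fintype.card ι = 14) (hs : Nondeg Q) (hQc : Nat.card (omegaGL ⇑Q) = nP14)
    {A : GL ι F} (h0 : orderOf A = 165) (h1 : orderOf (A ^ 15) = 11) (h2 : Blk 10 (A ^ 15)) : Ovs ⇑Q A := by
  intro γ hγ H hle hne hγH
  have hne' : Nonempty ι := Fintype.card_pos_iff.1 (by omega)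
  have hQ := nondeg_form hs
  by_cases hred : Red H
  · exact Or.inl hred
  right
  have hx : γ * A ^ 15 * γ⁻¹ ∈ H := by
    have := H.pow_mem hγH 15
    rwa [conj_pow] at this
  have ho : orderOf (γ * A ^ 15 * γ⁻¹) = 11 := by rw [orderOf_conj, h1]
  have hirr : ActsIrreducibly (matrixSet H) := by
    intro W hW
    by_contra hcon
    rw [not_or] at hcon
    apply hred
    have hinv : ∀ h ∈ H, ∀ w ∈ W, (h : Matrix ι ι F) *ᵥ w ∈ W := by
      intro h hh w hw
      have h3 := hW (h : Matrix ι ι F) ⟨h, hh, rfl⟩ ⟨w, hw, rfl⟩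
      rwa [Matrix.toLin'_apply] at h3
    refine ⟨W, hcon.1, hcon.2, fun h hh w => ⟨fun hw => hinv h hh w hw, fun hw => ?_⟩⟩
    have hw' : (h : Matrix ι ι F) *ᵥ w ∈ W := hw
    have h3 := hinv h⁻¹ (H.inv_mem hh) _ hw'
    rwa [Matrix.mulVec_mulVec, ← Units.val_mul, inv_mul_cancel, Units.val_one, Matrix.one_mulVec] at h3
  rcases geoF hF (by omega) (by rw [hι]; decide) hQ (hle.trans (omegaGL_le _)) hirr (s := 11) (by norm_num) (by norm_num)
    (by
      rw [← ho, ← Subgroup.orderOf_mk _ hx]
      exact orderOf_dvd_natCard _) (by omega)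
    (by
      intro i hi1 hi2
      rw [hι] at hi2
      have : i ≤ 7 := by omega
      interval_cases i <;> norm_num) with ⟨r, K, hr, hrn, hK, -, hHK⟩ | hres
  · rw [hι] at hrn
    have hr' : r = 2 ∨ r = 7 := by
      have h3 : r ∣ 2 * 7 := hrn
      rcases (Nat.Prime.dvd_mul hr).1 h3 with h | h
      · exact Or.inl ((Nat.prime_dvd_prime_iff_eq hr Nat.prime_two).1 h)
      · exact Or.inr ((Nat.prime_dvd_prime_iff_eq hr (by norm_num)).1 h)
    rcases hr' with rfl | rfl
    · exact ⟨K, hK, hHK⟩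
    · exfalso
      exact fld_kill hK (hHK hx) (by rw [ho]; norm_num) (by rw [(h2.conj γ).rk]; norm_num)
  · exfalso
    exact res_kill tab known hF hQc hle hne hγH (by rw [orderOf_conj, h0]) hres

/-- **`PΩ⁺₁₄(2)`.** -/
theorem spr_plus_fourteen (tab : OrderTable.{0}) (known : H257.El.Known.{0}) (hF : Fintype.card F = 2) :
    Spr (POmega F (quadFormPlus 7 F)) := by
  have hι : Fintype.card (Fin 7 ⊕ Fin 7) = 14 := by simp
  have hs : Sg (plusForm 7 F) 7 1 := sg_plusForm (F := F) 7
  have hG : Good (plusForm 7 F) := H604.Spr.good_plusForm (m := 7) (by norm_num)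
  have hPc : Nat.card (POmega F (quadFormPlus 7 F)) = nP14 := by
    have h := S0293.result hF 7 (by norm_num)
    rw [show Nat.gcd 4 (2 ^ 7 - 1) = 1 by norm_num, one_mul] at h
    rw [h]
    decide +kernel
  have hQc : Nat.card (omegaGL ⇑(plusForm 7 F)) = nP14 := by
    have h1 : Nat.card (omegaGL ⇑(plusForm 7 F)) = Nat.card (Omega F ⇑(plusForm 7 F)) := by
      unfold omegaGL
      exact (Nat.card_congr ((Omega F ⇑(plusForm 7 F)).equivMapOfInjective _ (Subgroup.subtype_injective _)).toEquiv).symm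
    rw [h1, ← hPc, ← coe_plusForm]
    exact (Nat.card_congr (H25.Cov.pomEquiv (two_eq_zero hF) (nondeg_plusForm 7 F) (by omega)).toEquiv).symm
  rw [← coe_plusForm]
  obtain ⟨A, hA, a0, a1, a2, a3⟩ := el_165 hF hs hι
  refine spr_of_ovs hG (by omega) hA (ovs_fourteen tab known hF hι (nondeg_plusForm 7 F) hQc a0 a1 a2) (a := 5) (e := 2)
    (i := 15) (by omega) (by norm_num) (by norm_num) (by norm_num) ⟨a2, by rw [a1]; decide⟩ ?_
  intro W hW
  have := a3 W hW
  rw [hι]
  simp only [Set.mem_ofPred_eq, Set.mem_insert_iff, Set.mem_singleton_iff] at this ⊢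
  omega

end Cfsg.Agent.H172.TH
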