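import Cfsg.Agent.H989.Cov.El12

/-!
# S3938: `Ω⁺₁₄(2)`, the element of order 165 (helper172)
-/

set_option autoImplicit false
set_option linter.unusedSectionVars false

namespace Cfsg.Agent.H172.TH

open Module Cfsg Cfsg.Geo QuadraticMap
open Cfsg.Agent.LieClassical.OrthCore Cfsg.Agent.LieClassical.OrthForms
open Cfsg.Agent.H182.Sign
open Cfsg.Agent.H383.Cov
open Cfsg.Agent.H989.Cov
open scoped MatrixGroups Matrix

variable {F : Type} [Field F] [Fintype F] {ι : Type} [Fintype ι] [DecidableEq ι]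

/-- `neg 5 + neg 2` -/
theorem el_165 (hF : Fintype.card F = 2) {Q : QuadraticForm F (ι → F)} (hQ : Sg Q 7 1) (hι : Fintype.card ι = 14) :
    ∃ A : GL ι F, A ∈ omegaGL ⇑Q ∧ orderOf A = 165 ∧ orderOf (A ^ 15) = 11 ∧ Blk 10 (A ^ 15) ∧
      Dims A {d | d = 0 ∨ d = 4 ∨ d = 10 ∨ d = 14} := by
  obtain ⟨L, _, _, _, Q₁, u, s1, s2, s3, s4, s5⟩ := exists_negN (F := F) (k := 5) (N := 33) (by norm_num)
    (by rw [hF]; norm_num)
  obtain ⟨L', _, _, _, Q₂, w, t1, t2, t3, t4, t5⟩ := exists_negN (F := F) (k := 2) (N := 5) (by norm_num)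
    (by rw [hF]; norm_num)
  have hfL : FiniteDimensional F L := Module.Finite.of_finite
  have hfL' : FiniteDimensional F L' := Module.Finite.of_finite
  have hs := s1.prod t1
  have p1 : (LinearMap.mulLeft F u : Module.End F L) ^ 33 = 1 := by
    rw [mulLeft_pow, mulLeft_eq_one, ← s3, pow_orderOf_eq_one]
  have p2 : (LinearMap.mulLeft F w : Module.End F L') ^ 5 = 1 := by
    rw [mulLeft_pow, mulLeft_eq_one, ← t3, pow_orderOf_eq_one]
  obtain ⟨A, hA, e, he, heq⟩ := exists_el hQ (by rw [hι]; norm_num) hs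
    (x := (LinearMap.mulLeft F u).prodMap (LinearMap.mulLeft F w)) (M := 33 * 5)
    (by
      intro v
      rw [prodForm_apply, prodForm_apply]
      change Q₁ (u * v.1) + Q₂ (w * v.2) = _
      rw [s5, t5])
    (by decide)
    (by
      rw [pair_pow, pow_mul, p1, one_pow, mul_comm 33 5, pow_mul, p2, one_pow]
      rfl)
  have hsim : Sim A ((LinearMap.mulLeft F u : Module.End F L).prodMap (LinearMap.mulLeft F w : Module.End F L')) := ⟨e, he⟩
  have hu1 : u ≠ 1 := ne_one_of_order s3 (by norm_num)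
  have hcase : ∀ W : Submodule F L, (∀ v ∈ W, LinearMap.mulLeft F u v ∈ W) → finrank F W = 0 ∨ finrank F W = 10 :=
    fun W hW => mul_case s3 s2 s4 (not_dvd_of hF _ _ (by intro j h1 h2; interval_cases j <;> norm_num)) hW
  have hpow : ∀ n : ℕ, A ^ n = 1 → u ^ n = 1 ∧ w ^ n = 1 := by
    intro n hn
    have h1 := (hsim.pow_eq_one_iff n).1 hn
    rw [pair_pow, mulLeft_pow, mulLeft_pow] at h1
    have h2 := congrArg (fun f : Module.End F (L × L') => (f (1, 1))) h1
    have h3 : ((u ^ n * (1 : L), w ^ n * (1 : L')) : L × L') = (1, 1) := h2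
    rw [mul_one, mul_one] at h3
    exact ⟨congrArg Prod.fst h3, congrArg Prod.snd h3⟩
  have hu15 : orderOf (u ^ 15) = 11 := by
    rw [orderOf_pow' u (by norm_num), s3]
    decide
  have hsim15 : Sim (A ^ 15) ((LinearMap.mulLeft F (u ^ 15) : Module.End F L).prodMap (1 : Module.End F L')) := by
    have h := hsim.pow 15
    rw [pair_pow, mulLeft_pow, show (15 : ℕ) = 5 * 3 by norm_num, pow_mul (LinearMap.mulLeft F w), p2, one_pow] at h
    exact h
  obtain ⟨b1, b2⟩ := blk_of_pair (bn_of hF bn_11) hu15 s2 hsim15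
  refine ⟨A, hA, ?_, b1, b2, hsim.dims fun W hW => ?_⟩
  · apply Nat.dvd_antisymm
    · apply orderOf_dvd_of_pow_eq_one
      rw [hsim.pow_eq_one_iff, pair_pow, show (165 : ℕ) = 33 * 5 by norm_num, pow_mul, p1, one_pow, mul_comm 33 5, pow_mul,
        p2, one_pow]
      rfl
    · obtain ⟨h1, h2⟩ := hpow _ (pow_orderOf_eq_one A)
      have h3 := orderOf_dvd_of_pow_eq_one h1
      have h4 := orderOf_dvd_of_pow_eq_one h2
      rw [s3] at h3
      rw [t3] at h4
      have h5 : 33 * 5 ∣ orderOf A := Nat.Coprime.mul_dvd_of_dvd_of_dvd (by norm_num) h3 h4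
      exact h5
  · obtain ⟨s, hs', t, ht', hst⟩ := pair_dims (S₁ := {d | d = 0 ∨ d = 10}) (S₂ := {d | d = 0 ∨ d = 4}) p1 p2
      (by norm_num) (mulLeft_free hu1) hcase
      (fun W hW => mul_case t3 t2 t4 (not_dvd_of hF _ _ (by intro j h1 h2; interval_cases j <;> norm_num)) hW) hW
    rw [hst]
    simp only [Set.mem_ofPred_eq] at hs' ht' ⊢
    omega

end Cfsg.Agent.H172.TH
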