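import Cfsg.Agent.H172.TH.FourEl
import Cfsg.Agent.H172.TH.GeoF
import Cfsg.Agent.H172.Cov.OutX
import Cfsg.Agent.H25.Cov.Plus14
import Cfsg.Agent.H989.Cov.Res
import Cfsg.Agent.H511.SL2Even
import Cfsg.Agent.H571.SylowNumber
import Cfsg.Agent.S0813

/-!
# S3938: `Ω⁺₁₄(2)`, the residual overgroups of an element of order 165 (helper172)

* `ord_core` : an element of a residual group whose order is prime to `|Out|` of the core gives an element of the core;
* `NoFF` : the small groups without elements of order 55;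
* `res_kill` : no proper residual subgroup of `Ω⁺₁₄(2)` contains elements of order 165.
-/

set_option autoImplicit false
set_option linter.unusedSectionVars false

namespace Cfsg.Agent.H172.TH

open Module Cfsg Cfsg.Geo
open Cfsg.Agent.OrdDiv
open Cfsg.Agent.H172.Cov (okX outX out_dvd_X)
open Cfsg.Agent.H25.Cov (NoOrd Pr nP14 lP14 prOf noOrd_alt noOrd_alt3 noOrd_realPsl noOrd_realPsp noOrd_realPlus
  noOrd_realMinus noOrd_suz pr11 pr5' pr11_4 pr5_4')
open scoped MatrixGroups Matrix

variable {F : Type} [Field F] [Fintype F] {ι : Type} [Fintype ι] [DecidableEq ι]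

/-- inner automorphisms of a simple group -/
theorem conj_injective {S : Type} [Group S] [IsSimpleGroup S] (hna : ¬ ∀ a b : S, a * b = b * a) :
    Function.Injective (MulAut.conj : S →* MulAut S) := by
  rw [injective_iff_map_eq_one]
  intro z hz
  have h1 : z ∈ Subgroup.center S := by
    rw [Subgroup.mem_center_iff]
    intro g
    have h2 := congrArg (fun f : MulAut S => f g) hz
    have h3 : z * g * z⁻¹ = g := h2
    rw [mul_inv_eq_iff_eq_mul] at h3
    exact h3.symm
  have hn : (Subgroup.center S).Normal := inferInstance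
  rcases hn.eq_bot_or_eq_top with h | h
  · rw [h, Subgroup.mem_bot] at h1
    exact h1
  · exfalso
    apply hna
    intro a b
    have h2 : a ∈ Subgroup.center S := by rw [h]; trivial
    exact (Subgroup.mem_center_iff.1 h2 b).symm

/-- **elements of the core** -/
theorem ord_core (tab : OrderTable.{0}) (hF : Fintype.card F = 2) {H P : Subgroup (GL ι F)} (hc : IsResidualCore H P)
    {x : GL ι F} (hx : x ∈ H) (hna : ¬ ∀ a b : P ⧸ (scalars ι F).subgroupOf P, a * b = b * a) {g : Grp}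
    (hok : okX g = true) (hr : OrdDiv.Real g (P ⧸ (scalars ι F).subgroupOf P)) (hcop : (orderOf x).Coprime (outX g)) :
    ∃ z : P ⧸ (scalars ι F).subgroupOf P, orderOf z = orderOf x := by
  have := hc.simple
  obtain ⟨y, hy⟩ := H989.Cov.res_order hF hc (MulEquiv.refl (P ⧸ (scalars ι F).subgroupOf P)) hx
  have h1 := out_dvd_X tab hna g hok hr
  have h2 : y ∈ Inn (P ⧸ (scalars ι F).subgroupOf P) := by
    rw [← QuotientGroup.eq_one_iff, ← orderOf_eq_one_iff]
    refine Nat.eq_one_of_dvd_coprimes hcop ?_ ?_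
    · rw [← hy]
      exact orderOf_map_dvd (QuotientGroup.mk' _) y
    · exact (orderOf_dvd_natCard _).trans h1
  obtain ⟨z, hz⟩ := h2
  exact ⟨z, by rw [← hy, ← hz, orderOf_injective _ (conj_injective hna)]⟩

/-- the small groups without elements of order 55 -/
structure NoFF : Prop where
  m11 : NoOrd.{0} .m11 (5 * 11)
  m12 : NoOrd.{0} .m12 (5 * 11)
  m22 : NoOrd.{0} .m22 (5 * 11)
  mcl : NoOrd.{0} .mcl (5 * 11)
  hs : NoOrd.{0} .hs (5 * 11)
  l2 : NoOrd.{0} (.psl 2 11) (5 * 11)
  u5 : NoOrd.{0} (.psu 5 2) (5 * 11)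
  u6 : NoOrd.{0} (.psu 6 2) (5 * 11)

/-- the names -/
theorem surv_list : H257.El.surv nP14 lP14 11 [5] =
    [.alt 11, .alt 12, .alt 13, .alt 14, .alt 15, .alt 16, .alt 17, .alt 18, .psl 5 4, .psl 6 4, .psl 2 11, .psp 5 2,
      .psp 6 2, .psu 5 2, .psu 6 2, .oplus 6 2, .ominus 5 2, .ominus 6 2, .m11, .m12, .m22, .mcl, .hs, .suz] := by
  decide +kernel

/-! ### Unitary groups -/

theorem noOrd_psu {K : Type} [Field K] [Finite K] {n q l₁ l₂ d₁ d₂ : ℕ} (P₁ : Pr (Nat.card K) l₁ d₁)
    (P₂ : Pr (Nat.card K) l₂ d₂) (h : n < Nat.lcm d₁ d₂) (hs : n < d₁ + d₂) (z : PSU n K q) :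
    orderOf z ≠ l₁ * l₂ := by
  intro hz
  obtain ⟨y, hy⟩ := QuotientGroup.mk'_surjective _ z
  have hfin : Finite (Matrix.SpecialLinearGroup (Fin n) K) := by
    have : Finite (Matrix (Fin n) (Fin n) K) := inferInstance
    exact Subtype.finite
  obtain ⟨k, hk⟩ := H257.El.exists_lift _ (z := y) (by rw [hy, hz])
  let φ : SU n K q →* Matrix (Fin n) (Fin n) K :=
    { toFun := fun g => (g : Matrix.SpecialLinearGroup (Fin n) K)
      map_one' := rfl
      map_mul' := fun g h => rfl }
  refine H25.Cov.noOrd_lin (H25.Cov.rhoOf φ) (H25.Cov.rhoOf_injective (φ := φ) fun g h hgh => Subtype.ext (Subtype.ext hgh))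
    P₁ P₂ ?_ ?_ _ hk
  · rw [Module.finrank_fin_fun]; exact h
  · rw [Module.finrank_fin_fun]; exact hs

theorem noOrd_realPsu {n q l₁ l₂ d₁ d₂ : ℕ} (P₁ : Pr (q ^ 2) l₁ d₁) (P₂ : Pr (q ^ 2) l₂ d₂) (h : n < Nat.lcm d₁ d₂)
    (hs : n < d₁ + d₂) : NoOrd.{0} (.psu n q) (l₁ * l₂) := by
  rintro S _ _ ⟨K, _, _, hK, ⟨e⟩⟩ z hz
  rw [← hK, ← Nat.card_eq_fintype_card] at P₁ P₂
  exact noOrd_psu P₁ P₂ h hs (e z) (by rw [MulEquiv.orderOf_eq, hz])

/-! ### `L_2(32)` -/

/-- an automorphism of a simple group fixing all the Sylow subgroups -/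
theorem eq_one_of_fix_sylow {S : Type} [Group S] [IsSimpleGroup S] {p : ℕ} {φ : MulAut S}
    (hall : ∀ T : Sylow p S, φ • T = T) (T0 : Sylow p S)
    (h0 : Subgroup.normalizer ((T0 : Subgroup S) : Set S) ≠ ⊤) : φ = 1 := by
  have hnm : ∀ (a : S) (T : Sylow p S), a ∈ Subgroup.normalizer ((T : Subgroup S) : Set S) ↔ a • T = T :=
    fun a T => Sylow.smul_eq_iff_mem_normalizer.symm
  apply MulEquiv.ext
  intro s
  rw [MulAut.one_apply]
  by_contra hs
  -- the kernel
  let K : Subgroup S := ⨅ T : Sylow p S, Subgroup.normalizer ((T : Subgroup S) : Set S)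
  have hKn : K.Normal := by
    refine ⟨fun a ha g => ?_⟩
    rw [Subgroup.mem_iInf] at ha ⊢
    intro T
    rw [hnm, mul_smul, mul_smul, (hnm _ _).1 (ha (g⁻¹ • T)), smul_inv_smul]
  have hKt : K ≠ ⊤ := by
    intro h
    apply h0
    rw [eq_top_iff, ← h]
    exact iInf_le _ T0
  have hKb : K = ⊥ := hKn.eq_bot_or_eq_top.resolve_right hKt
  have hmem : s⁻¹ * φ s ∈ K := by
    rw [Subgroup.mem_iInf]
    intro T
    rw [hnm, mul_smul, inv_smul_eq_iff]
    change MulAut.conj (φ s) • T = MulAut.conj s • T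
    have h6 : MulAut.conj (φ s) = φ * MulAut.conj s * φ⁻¹ := by
      apply MulEquiv.ext
      intro a
      change φ s * a * (φ s)⁻¹ = φ (s * (φ⁻¹ a) * s⁻¹)
      rw [map_mul, map_mul, map_inv, MulAut.apply_inv_self]
    rw [h6, mul_smul, mul_smul, inv_smul_eq_iff.2 (hall T).symm, hall]
  rw [hKb, Subgroup.mem_bot, inv_mul_eq_one] at hmem
  exact hs hmem.symm

/-- the automorphism group of `L_2(32)` has no elements of order 165 -/
theorem no_aut {S : Type} [Group S] [Finite S] [IsSimpleGroup S] (hna : ¬ ∀ a b : S, a * b = b * a)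
    (hcard : Nat.card S = 32736) (hΩ : Nat.card (Sylow 2 S) = 33)
    (hout : Nat.card (Out S) ∣ 5) (y : MulAut S) (hy : orderOf y = 165) : False := by
  -- the part of order 33
  have h1 : orderOf (y ^ 5) = 33 := by rw [orderOf_pow' y (by norm_num), hy]; decide
  have h2 : orderOf (y ^ 33) = 5 := by rw [orderOf_pow' y (by norm_num), hy]; decide
  have h3 : y ^ 5 ∈ Inn S := by
    rw [← QuotientGroup.eq_one_iff, ← orderOf_eq_one_iff]
    refine Nat.eq_one_of_dvd_coprimes (show Nat.Coprime 33 5 by norm_num) ?_ ?_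
    · rw [← h1]
      exact orderOf_map_dvd (QuotientGroup.mk' _) _
    · exact (orderOf_dvd_natCard _).trans hout
  obtain ⟨z, hz⟩ := h3
  have hzo : orderOf z = 33 := by rw [← h1, ← hz, orderOf_injective _ (conj_injective hna)]
  have hcomm : y ^ 33 * MulAut.conj z = MulAut.conj z * y ^ 33 := by
    rw [hz, ← pow_add, ← pow_add]
  have : Fact (Nat.Prime 2) := ⟨Nat.prime_two⟩
  have : Fact (Nat.Prime 5) := ⟨by norm_num⟩
  have hnm : ∀ (a : S) (T : Sylow 2 S), a ∈ Subgroup.normalizer ((T : Subgroup S) : Set S) ↔ a • T = T :=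
    fun a T => Sylow.smul_eq_iff_mem_normalizer.symm
  have hidx : ∀ T : Sylow 2 S, (Subgroup.normalizer ((T : Subgroup S) : Set S)).index = 33 := by
    intro T
    rw [← hΩ, T.card_eq_index_normalizer]
    rfl
  have hN : ∀ T : Sylow 2 S, Nat.card (Subgroup.normalizer ((T : Subgroup S) : Set S)) = 992 := by
    intro T
    have h4 := Subgroup.card_mul_index (Subgroup.normalizer ((T : Subgroup S) : Set S))
    rw [hidx T, hcard] at h4
    omega
  -- a fixed point of the element of order 5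
  have h5 : IsPGroup 5 (Subgroup.zpowers (y ^ 33)) := by
    refine IsPGroup.of_card (n := 1) ?_
    rw [Nat.card_zpowers, h2, pow_one]
  obtain ⟨T0, hT0⟩ := h5.nonempty_fixed_point_of_prime_not_dvd_card (Sylow 2 S) (by rw [hΩ]; norm_num)
  have hT0' : y ^ 33 • T0 = T0 := hT0 ⟨y ^ 33, Subgroup.mem_zpowers _⟩
  -- the orbit of `z`
  let f : Subgroup.zpowers z → Sylow 2 S := fun g => (g : S) • T0
  have hf : Function.Injective f := by
    rintro ⟨g, hg⟩ ⟨g', hg'⟩ h
    have h6 : (g'⁻¹ * g) • T0 = T0 := by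
      rw [mul_smul]
      change g • T0 = g' • T0 at h
      rw [h, inv_smul_smul]
    rw [← hnm] at h6
    have h7 : orderOf (g'⁻¹ * g) ∣ 992 := by
      rw [← hN T0, ← Subgroup.orderOf_mk (g'⁻¹ * g) h6]
      exact orderOf_dvd_natCard _
    have h8 : orderOf (g'⁻¹ * g) ∣ 33 := by
      have h9 : g'⁻¹ * g ∈ Subgroup.zpowers z := (Subgroup.zpowers z).mul_mem ((Subgroup.zpowers z).inv_mem hg') hg
      rw [← hzo, ← Nat.card_zpowers z, ← Subgroup.orderOf_mk (g'⁻¹ * g) h9]
      exact orderOf_dvd_natCard _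
    have h10 := Nat.eq_one_of_dvd_coprimes (show Nat.Coprime 992 33 by norm_num) h7 h8
    rw [orderOf_eq_one_iff, inv_mul_eq_one] at h10
    exact Subtype.ext h10.symm
  have hbij : Function.Bijective f := by
    rw [Nat.bijective_iff_injective_and_card]
    exact ⟨hf, by rw [Nat.card_zpowers, hzo, hΩ]⟩
  have hall : ∀ T : Sylow 2 S, y ^ 33 • T = T := by
    intro T
    obtain ⟨⟨g, hg⟩, rfl⟩ := hbij.2 T
    obtain ⟨i, rfl⟩ := Subgroup.mem_zpowers_iff.1 hg
    change y ^ 33 • (MulAut.conj (z ^ i) • T0) = MulAut.conj (z ^ i) • T0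
    have h6 : Commute (y ^ 33) (MulAut.conj (z ^ i)) := by
      rw [map_zpow]
      exact Commute.zpow_right hcomm i
    rw [← mul_smul, h6.eq, mul_smul, hT0']
  -- so it is trivial
  have h6 : y ^ 33 = 1 := eq_one_of_fix_sylow hall T0 (by
    intro h
    have h7 := hidx T0
    rw [h, Subgroup.index_top] at h7
    omega)
  rw [h6, orderOf_one] at h2
  norm_num at h2

/-- the Sylow 2-subgroups of `L_2(32)` -/
theorem syl_psl32 {K : Type} [Field K] [Fintype K] (hK : Fintype.card K = 32) {S : Type} [Group S] [Finite S]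
    (e : S ≃* Matrix.ProjectiveSpecialLinearGroup (Fin 2) K) (hcard : Nat.card S = 32736) :
    Nat.card (Sylow 2 S) = 33 := by
  have : Fact (Nat.Prime 2) := ⟨Nat.prime_two⟩
  have h20 : (2 : K) = 0 := H25.Cov.two_eq_zero (k := 5) (by rw [hK]; norm_num) (by norm_num)
  have hchar : CharP K 2 := CharTwo.of_one_ne_zero_of_two_eq_zero one_ne_zero h20
  have hfin : Finite (Matrix.SpecialLinearGroup (Fin 2) K) := by
    have : Finite (Matrix (Fin 2) (Fin 2) K) := inferInstance
    exact Subtype.finite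
  have hcen : Subgroup.center (Matrix.SpecialLinearGroup (Fin 2) K) = ⊥ := by
    rw [eq_bot_iff]
    intro z hz
    obtain ⟨r, hr, hz'⟩ := Matrix.SpecialLinearGroup.mem_center_iff.1 hz
    rw [Fintype.card_fin] at hr
    have hr1 : r = 1 := by
      have h1 : (r - 1) ^ 2 = 0 := by linear_combination hr - (r - 1) * h20
      exact sub_eq_zero.1 (pow_eq_zero_iff (by norm_num) |>.1 h1)
    rw [Subgroup.mem_bot]
    apply Subtype.ext
    rw [← hz', hr1, map_one]
    rfl
  let f : Matrix.SpecialLinearGroup (Fin 2) K →* S :=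
    e.symm.toMonoidHom.comp (QuotientGroup.mk' (Subgroup.center (Matrix.SpecialLinearGroup (Fin 2) K)))
  have hf : Function.Surjective f := e.symm.surjective.comp (QuotientGroup.mk'_surjective _)
  have hker : f.ker = ⊥ := by
    rw [MonoidHom.ker_eq_bot_iff]
    refine e.symm.injective.comp ?_
    rw [← MonoidHom.ker_eq_bot_iff, QuotientGroup.ker_mk', hcen]
  rw [← H571.SylowNumber.card_sylow_of_surjective f hf (by rw [hker]; exact IsPGroup.of_bot)]
  have hc : Nat.card (Matrix.SpecialLinearGroup (Fin 2) K) = 32736 := by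
    rw [← hcard]
    exact Nat.card_congr (Equiv.ofBijective f ⟨(MonoidHom.ker_eq_bot_iff f).1 hker, hf⟩)
  obtain ⟨T⟩ : Nonempty (Sylow 2 (Matrix.SpecialLinearGroup (Fin 2) K)) := inferInstance
  rw [T.card_eq_index_normalizer]
  have hq : Nat.card K = 32 := by rw [Nat.card_eq_fintype_card, hK]
  have h1 := H511.SL2Even.card_normalizer (by rw [hq]; norm_num) T
  have h2 := Subgroup.card_mul_index (Subgroup.normalizer ((T : Subgroup (Matrix.SpecialLinearGroup (Fin 2) K)) :
    Set (Matrix.SpecialLinearGroup (Fin 2) K)))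
  rw [h1, hc, hq] at h2
  change (Subgroup.normalizer ((T : Subgroup (Matrix.SpecialLinearGroup (Fin 2) K)) :
    Set (Matrix.SpecialLinearGroup (Fin 2) K))).index = 33
  omega

/-- `|Aut L_2(127)|` is prime to 11 -/
theorem aut_psl127 {S : Type} [Group S] (h : OrdDiv.Real (.psl 2 127) S) (y : MulAut S) : orderOf y ≠ 165 := by
  intro hy
  obtain ⟨K, _, _, hK, ⟨e⟩⟩ := h
  have : Fact (Nat.Prime 127) := ⟨by norm_num⟩
  have h1 := S0813.result (F := K) 127 1 le_rfl (by rw [hK, pow_one]) 2 le_rfl (fun _ => by norm_num)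
  have h2 : Nat.card (Matrix.ProjGenLinGroup (Fin 2) K) ∣ 258080256 := by
    have h3 : Nat.card (GL (Fin 2) K) = 258080256 := by
      rw [Matrix.card_GL_field]
      simp [Fin.prod_univ_two, hK]
    rw [← h3]
    exact Subgroup.card_quotient_dvd_card _
  rw [if_pos rfl, one_mul, one_mul] at h1
  have h4 : Nat.card (MulAut S) = Nat.card (MulAut (Matrix.ProjectiveSpecialLinearGroup (Fin 2) K)) :=
    H25.Cov.mulAut_congr e
  have h5 : orderOf y ∣ 258080256 := by
    rw [← h1, ← h4] at h2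
    exact (orderOf_dvd_natCard y).trans h2
  rw [hy] at h5
  norm_num at h5

end Cfsg.Agent.H172.TH
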