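import Cfsg.Agent.H172.TH.Uni
import Cfsg.Agent.H989.Cov.Pom
import Cfsg.Agent.H424.Spr.Two

/-!
# S3938: the last steps for orthogonal groups (helper172)

* `exists_proj` : the projection of `Ω(Q)` onto `PΩ(Q')`, `Q'` isometric to `Q`;
* `spr_one`, `spr_two` : the criteria U1 and U2' in terms of matrices;
* `spr_irr` : an irreducible element whose proper overgroups normalise fields of one or two prime degrees.
-/

set_option autoImplicit false
set_option linter.unusedSectionVars false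
set_option linter.style.haveILetI false

namespace Cfsg.Agent.H172.TH

open Module Cfsg Cfsg.Geo QuadraticMap
open Cfsg.Agent.H278.Cov (Red Ext)
open Cfsg.Agent.H383.Cov
open Cfsg.Agent.H424.Spr (Spr spr_of_one_up spr_of_two_up)
open scoped MatrixGroups Matrix

variable {F : Type} [Field F] {ι κ : Type} [Fintype ι] [DecidableEq ι] [Fintype κ] [DecidableEq κ]

/-- the projection -/
theorem exists_proj {Q : (ι → F) → F} {Q' : (κ → F) → F} (j : (ι → F) ≃ₗ[F] (κ → F)) (hj : ∀ x, Q' (j x) = Q x) :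
    ∃ f : Omega F Q →* POmega F Q', Function.Surjective f ∧ f.ker ≤ Subgroup.center (Omega F Q) := by
  obtain ⟨e0⟩ := LieClassical.OrthFourCommon.exists_isometryGroup_equiv j Q Q' hj
  obtain ⟨e1⟩ := LieClassical.OrthFourCommon.exists_isometryGroup_equiv (LinearEquiv.refl F (κ → F)) Q' Q'
    (fun v => rfl)
  obtain ⟨e2⟩ := ClassicalGeometry.OddInvolutions.commutator_quot_center_congr (e0.trans e1.symm)
  refine ⟨e2.toMonoidHom.comp (QuotientGroup.mk' _), e2.surjective.comp (QuotientGroup.mk'_surjective _), ?_⟩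
  intro z hz
  rw [MonoidHom.mem_ker] at hz
  have h1 : (QuotientGroup.mk' (Subgroup.center (Omega F Q))) z = 1 := e2.injective (hz.trans (map_one e2).symm)
  rwa [← MonoidHom.mem_ker, QuotientGroup.ker_mk'] at h1

variable [Fintype F]

/-- U1 -/
theorem spr_one {Q : (ι → F) → F} {Q' : (κ → F) → F} (j : (ι → F) ≃ₗ[F] (κ → F)) (hj : ∀ x, Q' (j x) = Q x)
    [IsSimpleGroup (POmega F Q')] (hna : ∃ x y : POmega F Q', x * y ≠ y * x) {s : GL ι F} (hs : s ∈ omegaGL Q)
    {M : Subgroup (GL ι F)} (hc : ∀ z ∈ omegaGL Q, z * s = s * z → z ∈ M) (hM : ¬ omegaGL Q ≤ M)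
    (hov : ∀ H : Subgroup (GL ι F), H ≤ omegaGL Q → H ≠ omegaGL Q → s ∈ H → H ≤ M) : Spr (POmega F Q') := by
  obtain ⟨f, hf, hk⟩ := exists_proj j hj
  have hfinG : Finite (Omega F Q) := Finite.of_injective _ (emb_injective Q)
  have hfin : Finite (POmega F Q') := Finite.of_surjective f hf
  obtain ⟨s, rfl⟩ : ∃ s', emb Q s' = s := by rw [← range_emb] at hs; exact hs
  have hmem : ∀ g : Omega F Q, emb Q g ∈ omegaGL Q := fun g => by rw [← range_emb]; exact ⟨g, rfl⟩
  refine spr_of_one_up hna f hf (s := s) (M := M.comap (emb Q)) ?_ ?_ fun K _ hsK hK => ?_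
  · intro z hz
    refine hc _ (hmem z) ?_
    rw [← map_mul, ← map_mul, (Subgroup.mem_center_iff.1 (hk hz) s)]
  · intro htop
    apply hM
    intro x hx
    rw [← range_emb] at hx
    obtain ⟨g, rfl⟩ := hx
    have : g ∈ M.comap (emb Q) := by rw [htop]; trivial
    exact this
  · exact Subgroup.map_le_iff_le_comap.1 (hov _ (map_emb_le K) (map_emb_ne hK) ⟨s, hsK, rfl⟩)

/-- U2' -/
theorem spr_two {Q : (ι → F) → F} {Q' : (κ → F) → F} (j : (ι → F) ≃ₗ[F] (κ → F)) (hj : ∀ x, Q' (j x) = Q x)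
    [IsSimpleGroup (POmega F Q')] (hna : ∃ x y : POmega F Q', x * y ≠ y * x) {s : GL ι F} (hs : s ∈ omegaGL Q)
    {M₁ M₂ : Subgroup (GL ι F)} (hc₁ : ∀ z ∈ omegaGL Q, z * s = s * z → z ∈ M₁)
    (hc₂ : ∀ z ∈ omegaGL Q, z * s = s * z → z ∈ M₂) (hM₁ : ¬ omegaGL Q ≤ M₁) (hM₂ : ¬ omegaGL Q ≤ M₂)
    (hnc : ∀ y ∈ omegaGL Q, (∀ x ∈ omegaGL Q, x ∈ M₁ ↔ y * x * y⁻¹ ∈ M₂) → ∀ x ∈ omegaGL Q, x ∈ M₁ ↔ x ∈ M₂)
    (hov : ∀ H : Subgroup (GL ι F), H ≤ omegaGL Q → H ≠ omegaGL Q → s ∈ H → H ≤ M₁ ∨ H ≤ M₂) :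
    Spr (POmega F Q') := by
  obtain ⟨f, hf, hk⟩ := exists_proj j hj
  have hfinG : Finite (Omega F Q) := Finite.of_injective _ (emb_injective Q)
  have hfin : Finite (POmega F Q') := Finite.of_surjective f hf
  obtain ⟨s, rfl⟩ : ∃ s', emb Q s' = s := by rw [← range_emb] at hs; exact hs
  have hmem : ∀ g : Omega F Q, emb Q g ∈ omegaGL Q := fun g => by rw [← range_emb]; exact ⟨g, rfl⟩
  have hker : ∀ M : Subgroup (GL ι F), (∀ z ∈ omegaGL Q, z * emb Q s = emb Q s * z → z ∈ M) →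
      f.ker ≤ M.comap (emb Q) := by
    intro M hc z hz
    refine hc _ (hmem z) ?_
    rw [← map_mul, ← map_mul, (Subgroup.mem_center_iff.1 (hk hz) s)]
  have htop : ∀ M : Subgroup (GL ι F), ¬ omegaGL Q ≤ M → M.comap (emb Q) ≠ ⊤ := by
    intro M hM htop
    apply hM
    intro x hx
    rw [← range_emb] at hx
    obtain ⟨g, rfl⟩ := hx
    have : g ∈ M.comap (emb Q) := by rw [htop]; trivial
    exact this
  refine spr_of_two_up hna f hf (s := s) (M₁ := M₁.comap (emb Q)) (M₂ := M₂.comap (emb Q)) (hker _ hc₁) (hker _ hc₂)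
    (htop _ hM₁) (htop _ hM₂) (fun y hy => ?_) fun K _ hsK hK => ?_
  · have h1 := hnc (emb Q y) (hmem y) (fun x hx => by
      rw [← range_emb] at hx
      obtain ⟨g, rfl⟩ := hx
      rw [← map_inv, ← map_mul, ← map_mul]
      constructor
      · intro h
        have h2 : y * g * y⁻¹ ∈ M₂.comap (emb Q) := by
          rw [← hy]
          exact ⟨g, h, rfl⟩
        exact h2
      · intro h
        have h2 : y * g * y⁻¹ ∈ M₂.comap (emb Q) := h
        rw [← hy] at h2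
        obtain ⟨g', hg', h3⟩ := h2
        have h4 : y * g' * y⁻¹ = y * g * y⁻¹ := h3
        have h5 : g' = g := by simpa using h4
        rw [← h5]
        exact hg')
    ext g
    exact h1 _ (hmem g)
  · exact (hov _ (map_emb_le K) (map_emb_ne hK) ⟨s, hsK, rfl⟩).imp Subgroup.map_le_iff_le_comap.1
      Subgroup.map_le_iff_le_comap.1

/-- conjugation of matrices -/
def cj (y : GL ι F) : Matrix ι ι F ≃ₐ[F] Matrix ι ι F := MulSemiringAction.toAlgEquiv F (Matrix ι ι F) (ConjAct.toConjAct y)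

theorem cj_apply (y : GL ι F) (k : Matrix ι ι F) :
    cj y k = (y : Matrix ι ι F) * k * ((y⁻¹ : GL ι F) : Matrix ι ι F) := by
  change ConjAct.toConjAct y • k = _
  rw [ConjAct.units_smul_def]
  rfl

theorem cj_mul (x y : GL ι F) (k : Matrix ι ι F) : cj (x * y) k = cj x (cj y k) := by
  rw [cj_apply, cj_apply, cj_apply, mul_inv_rev, Units.val_mul, Units.val_mul]
  simp only [mul_assoc]

theorem mem_cjE {y : GL ι F} {E : Subalgebra F (Matrix ι ι F)} {k : Matrix ι ι F} :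
    cj y k ∈ E.map (cj y).toAlgHom ↔ k ∈ E := by
  rw [Subalgebra.mem_map]
  constructor
  · rintro ⟨k', hk', h⟩
    have h1 : k' = k := (cj y).injective h
    rwa [← h1]
  · intro h
    exact ⟨k, h, rfl⟩

theorem mem_norm {z : GL ι F} {E : Subalgebra F (Matrix ι ι F)} :
    z ∈ subalgebraNormalizer E ↔ ∀ k, k ∈ E ↔ cj z k ∈ E := by
  constructor
  · intro h k
    rw [cj_apply]
    exact h k
  · intro h k
    rw [← cj_apply]
    exact h k

theorem mem_norm_map {y x : GL ι F} {E : Subalgebra F (Matrix ι ι F)} :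
    y * x * y⁻¹ ∈ subalgebraNormalizer (E.map (cj y).toAlgHom) ↔ x ∈ subalgebraNormalizer E := by
  rw [mem_norm, mem_norm]
  have key : ∀ k, cj (y * x * y⁻¹) (cj y k) = cj y (cj x k) := by
    intro k
    rw [← cj_mul, ← cj_mul]
    congr 1
    group
  constructor
  · intro h k
    rw [← mem_cjE (y := y), h, key, mem_cjE]
  · intro h k
    obtain ⟨k, rfl⟩ := (cj y).surjective k
    rw [key, mem_cjE, mem_cjE]
    exact h k

theorem isField_map {r : ℕ} {E : Subalgebra F (Matrix ι ι F)} (hE : IsFieldSubalgebra r E) (y : GL ι F) :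
    IsFieldSubalgebra r (E.map (cj y).toAlgHom) := by
  refine ⟨?_, ?_, ?_⟩
  · rintro _ ⟨a, ha, rfl⟩ _ ⟨b, hb, rfl⟩
    change cj y a * cj y b = cj y b * cj y a
    rw [← map_mul, ← map_mul, hE.comm a ha b hb]
  · rintro _ ⟨a, ha, rfl⟩ h0
    obtain ⟨b, hb, hab⟩ := hE.inv a ha (by rintro rfl; exact h0 (map_zero _))
    refine ⟨cj y b, ⟨b, hb, rfl⟩, ?_⟩
    change cj y a * cj y b = 1
    rw [← map_mul, hab, map_one]
  · rw [← hE.finrank_eq]
    exact (LinearEquiv.finrank_eq (Subalgebra.equivMapOfInjective E (cj y).toAlgHom (cj y).injective).toLinearEquiv).symm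

theorem comm_iff {s : GL ι F} {k : Matrix ι ι F} : (s : Matrix ι ι F) * k = k * s ↔ cj s k = k := by
  rw [cj_apply]
  constructor
  · intro h
    rw [h, mul_assoc, ← Units.val_mul, mul_inv_cancel, Units.val_one, mul_one]
  · intro h
    have h1 := congrArg (fun m => m * (s : Matrix ι ι F)) h
    beta_reduce at h1
    rwa [mul_assoc, ← Units.val_mul, inv_mul_cancel, Units.val_one, mul_one] at h1

/-- an element without proper overgroups -/
theorem false_of_none {Q : (ι → F) → F} {Q' : (κ → F) → F} (j : (ι → F) ≃ₗ[F] (κ → F))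
    (hj : ∀ x, Q' (j x) = Q x) (hna : ∃ x y : POmega F Q', x * y ≠ y * x) {s : GL ι F}
    (hs : s ∈ omegaGL Q) (h3 : ∀ H : Subgroup (GL ι F), H ≤ omegaGL Q → H ≠ omegaGL Q → s ∉ H) : False := by
  have h4 : Subgroup.zpowers s = omegaGL Q := by
    by_contra hcon
    exact h3 _ (by rwa [Subgroup.zpowers_le]) hcon (Subgroup.mem_zpowers s)
  obtain ⟨x, y, hxy⟩ := hna
  obtain ⟨f, hf, -⟩ := exists_proj j hj
  obtain ⟨a, rfl⟩ := hf x
  obtain ⟨b, rfl⟩ := hf y
  apply hxy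
  have h5 : ∀ g : Omega F Q, emb Q g ∈ Subgroup.zpowers s := fun g => by rw [h4, ← range_emb]; exact ⟨g, rfl⟩
  rw [← map_mul, ← map_mul]
  congr 1
  apply emb_injective
  rw [map_mul, map_mul]
  obtain ⟨m, hm⟩ := Subgroup.mem_zpowers_iff.1 (h5 a)
  obtain ⟨n, hn⟩ := Subgroup.mem_zpowers_iff.1 (h5 b)
  rw [← hm, ← hn, ← zpow_add, ← zpow_add, add_comm]

/-- subspaces which are the only invariant subspace of their dimension are stabilised by the centraliser -/
theorem mem_stab_of_unique {s z : GL ι F} {W : Submodule F (ι → F)}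
    (hW : ∀ w ∈ W, (s : Matrix ι ι F) *ᵥ w ∈ W)
    (huni : ∀ U : Submodule F (ι → F), (∀ w ∈ U, (s : Matrix ι ι F) *ᵥ w ∈ U) → finrank F U = finrank F W → U = W)
    (hz : z * s = s * z) : z ∈ subspaceStabilizer W := by
  have h1 := huni (W.map (eqv z : (ι → F) →ₗ[F] (ι → F))) (by
    rintro _ ⟨w, hw, rfl⟩
    refine ⟨(s : Matrix ι ι F) *ᵥ w, hW w hw, ?_⟩
    change (z : Matrix ι ι F) *ᵥ ((s : Matrix ι ι F) *ᵥ w) = (s : Matrix ι ι F) *ᵥ ((z : Matrix ι ι F) *ᵥ w)
    rw [Matrix.mulVec_mulVec, Matrix.mulVec_mulVec, ← Units.val_mul, ← Units.val_mul, hz])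
    (LinearEquiv.finrank_map_eq (eqv z) W)
  intro w
  constructor
  · intro hw
    rw [← h1]
    exact ⟨w, hw, rfl⟩
  · intro hw
    have hw' : (z : Matrix ι ι F) *ᵥ w ∈ W := hw
    rw [← h1] at hw'
    obtain ⟨w', hw', h2⟩ := hw'
    have h3 : w' = w := (eqv z).injective h2
    rwa [← h3]

/-- **irreducible elements** -/
theorem spr_irr [Nonempty ι] {Q : (ι → F) → F} {Q' : (κ → F) → F} (j : (ι → F) ≃ₗ[F] (κ → F))
    (hj : ∀ x, Q' (j x) = Q x) [IsSimpleGroup (POmega F Q')] (hna : ∃ x y : POmega F Q', x * y ≠ y * x) {s : GL ι F}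
    (hs : s ∈ omegaGL Q)
    (hirr : ∀ W : Submodule F (ι → F), (∀ v ∈ W, (s : Matrix ι ι F) *ᵥ v ∈ W) → W = ⊥ ∨ W = ⊤)
    {r₁ r₂ : ℕ} (hco₁ : (orderOf s).Coprime r₁) (hco₂ : (orderOf s).Coprime r₂)
    (hov : ∀ H : Subgroup (GL ι F), H ≤ omegaGL Q → H ≠ omegaGL Q → s ∈ H →
      ∃ (r : ℕ) (E : Subalgebra F (Matrix ι ι F)), (r = r₁ ∨ r = r₂) ∧ IsFieldSubalgebra r E ∧
        H ≤ subalgebraNormalizer E)
    (hne : ∀ (r : ℕ) (E : Subalgebra F (Matrix ι ι F)), (r = r₁ ∨ r = r₂) → IsFieldSubalgebra r E →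
      ¬ omegaGL Q ≤ subalgebraNormalizer E) : Spr (POmega F Q') := by
  -- the field of degree `r`
  have hcop : ∀ r, r = r₁ ∨ r = r₂ → (orderOf s).Coprime r := by
    rintro r (rfl | rfl)
    · exact hco₁
    · exact hco₂
  have hcomm : ∀ {r : ℕ} {E : Subalgebra F (Matrix ι ι F)}, (r = r₁ ∨ r = r₂) → IsFieldSubalgebra r E →
      s ∈ subalgebraNormalizer E → ∀ k ∈ E, (s : Matrix ι ι F) * k = k * s :=
    fun hr hE hsE k hk => comm_of_coprime hE hsE (hcop _ hr) hk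
  have huni : ∀ {r : ℕ} {E E' : Subalgebra F (Matrix ι ι F)}, (r = r₁ ∨ r = r₂) → IsFieldSubalgebra r E →
      s ∈ subalgebraNormalizer E → IsFieldSubalgebra r E' → s ∈ subalgebraNormalizer E' → E = E' :=
    fun hr hE h1 hE' h2 => field_unique hirr hE hE' (hcomm hr hE h1) (hcomm hr hE' h2)
  -- the centraliser
  have hcen : ∀ {r : ℕ} {E : Subalgebra F (Matrix ι ι F)}, (r = r₁ ∨ r = r₂) → IsFieldSubalgebra r E →
      s ∈ subalgebraNormalizer E → ∀ z ∈ omegaGL Q, z * s = s * z → z ∈ subalgebraNormalizer E := by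
    intro r E hr hE hsE z _ hz
    have h1 : z * s * z⁻¹ = s := by rw [hz, mul_inv_cancel_right]
    have h2 : s ∈ subalgebraNormalizer (E.map (cj z).toAlgHom) := by
      rw [← h1]
      exact mem_norm_map.2 hsE
    have h3 := huni hr hE hsE (isField_map hE z) h2
    rw [mem_norm]
    intro k
    conv_rhs => rw [h3]
    exact mem_cjE.symm
  by_cases h1 : ∃ E : Subalgebra F (Matrix ι ι F), IsFieldSubalgebra r₁ E ∧ s ∈ subalgebraNormalizer E
  · obtain ⟨E₁, hE₁, hs₁⟩ := h1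
    by_cases h2 : ∃ E : Subalgebra F (Matrix ι ι F), IsFieldSubalgebra r₂ E ∧ s ∈ subalgebraNormalizer E
    · obtain ⟨E₂, hE₂, hs₂⟩ := h2
      refine spr_two j hj hna hs (M₁ := subalgebraNormalizer E₁) (M₂ := subalgebraNormalizer E₂)
        (hcen (Or.inl rfl) hE₁ hs₁) (hcen (Or.inr rfl) hE₂ hs₂) (hne _ _ (Or.inl rfl) hE₁) (hne _ _ (Or.inr rfl) hE₂)
        ?_ ?_
      · intro y hy hx
        -- the conjugate field
        have h3 : s ∈ subalgebraNormalizer (E₁.map (cj y).toAlgHom) := by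
          have h4 : y⁻¹ * s * y ∈ subalgebraNormalizer E₁ := by
            rw [hx _ ((omegaGL Q).mul_mem ((omegaGL Q).mul_mem ((omegaGL Q).inv_mem hy) hs) hy)]
            have : y * (y⁻¹ * s * y) * y⁻¹ = s := by group
            rwa [this]
          rw [← mem_norm_map (y := y)] at h4
          have : y * (y⁻¹ * s * y) * y⁻¹ = s := by group
          rwa [this] at h4
        have h4 := huni (Or.inl rfl) hE₁ hs₁ (isField_map hE₁ y) h3
        intro x hxQ
        have h5 := hx (y⁻¹ * x * y) ((omegaGL Q).mul_mem ((omegaGL Q).mul_mem ((omegaGL Q).inv_mem hy) hxQ) hy)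
        have h6 : y * (y⁻¹ * x * y) * y⁻¹ = x := by group
        rw [h6] at h5
        rw [← h5, ← mem_norm_map (y := y) (x := y⁻¹ * x * y), ← h4, h6]
      · intro H hle hne' hsH
        obtain ⟨r, E, rfl | rfl, hE, hHE⟩ := hov H hle hne' hsH
        · left
          rwa [huni (Or.inl rfl) hE₁ hs₁ hE (hHE hsH)]
        · right
          rwa [huni (Or.inr rfl) hE₂ hs₂ hE (hHE hsH)]
    · refine spr_one j hj hna hs (M := subalgebraNormalizer E₁) (hcen (Or.inl rfl) hE₁ hs₁) (hne _ _ (Or.inl rfl) hE₁)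
        ?_
      intro H hle hne' hsH
      obtain ⟨r, E, rfl | rfl, hE, hHE⟩ := hov H hle hne' hsH
      · rwa [huni (Or.inl rfl) hE₁ hs₁ hE (hHE hsH)]
      · exact absurd ⟨E, hE, hHE hsH⟩ h2
  · by_cases h2 : ∃ E : Subalgebra F (Matrix ι ι F), IsFieldSubalgebra r₂ E ∧ s ∈ subalgebraNormalizer E
    · obtain ⟨E₂, hE₂, hs₂⟩ := h2
      refine spr_one j hj hna hs (M := subalgebraNormalizer E₂) (hcen (Or.inr rfl) hE₂ hs₂) (hne _ _ (Or.inr rfl) hE₂)
        ?_
      intro H hle hne' hsH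
      obtain ⟨r, E, rfl | rfl, hE, hHE⟩ := hov H hle hne' hsH
      · exact absurd ⟨E, hE, hHE hsH⟩ h1
      · rwa [huni (Or.inr rfl) hE₂ hs₂ hE (hHE hsH)]
    · -- no proper overgroup
      exfalso
      refine false_of_none j hj hna hs fun H hle hne' hsH => ?_
      obtain ⟨r, E, rfl | rfl, hE, hHE⟩ := hov H hle hne' hsH
      · exact h1 ⟨E, hE, hHE hsH⟩
      · exact h2 ⟨E, hE, hHE hsH⟩

end Cfsg.Agent.H172.TH
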