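import Cfsg.Agent.H172.TH.Frame
import Cfsg.Agent.H212.Cov.Om10
import Cfsg.Agent.H383.Cov.TenTwo
import Cfsg.Agent.H858.CgOrthC
import Cfsg.Agent.S0296
import Cfsg.Agent.S0297

/-!
# S3938: the rows `PΩ^±_10(2)` (helper172)
-/

set_option autoImplicit false
set_option linter.unusedSectionVars false

namespace Cfsg.Agent.H172.TH

open Module Cfsg Cfsg.Geo
open Cfsg.Agent.LieClassical.OrthCore Cfsg.Agent.LieClassical.OrthForms
open Cfsg.Agent.LieClassical.OmegaReindex (reindexForm isometryGroupReindex)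
open Cfsg.Agent.H182.Sign Cfsg.Agent.H403.Classify
open Cfsg.Agent.H278.Cov (Red Ext)
open Cfsg.Agent.H383.Cov Cfsg.Agent.H383.Cov.Ten
open Cfsg.Agent.H424.Spr (Spr)
open Cfsg.Agent.H212.Cov
open Cfsg.Agent.H212.Cov.Om10 (S5851Stmt)
open scoped MatrixGroups Matrix

variable {F : Type} [Field F] [Fintype F]

theorem exists_ne_of {G : Type*} [Group G] (h : ¬ IsMulCommutative G) : ∃ x y : G, x * y ≠ y * x := by
  by_contra hcon
  push Not at hcon
  exact h ⟨⟨hcon⟩⟩

theorem hna_minus {m : ℕ} (hm : 4 ≤ m) {a b : F}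
    (hab : ∀ z₁ z₂ : F, z₁ ^ 2 + a * z₁ * z₂ + b * z₂ ^ 2 = 0 → z₁ = 0 ∧ z₂ = 0) :
    ∃ x y : POmega F (quadFormMinus (m - 1) F a b), x * y ≠ y * x := by
  have h : ¬ IsMulCommutative (POmega F (quadFormMinus (m - 1) F a b)) :=
    H858.CgOrth.not_comm_POmega (H198.Carriers.good_minusQ (m := m - 1) (by omega) hab)
  exact exists_ne_of h

theorem hna_plus {m : ℕ} (hm : 4 ≤ m) : ∃ x y : POmega F (quadFormPlus m F), x * y ≠ y * x := by
  have h : ¬ IsMulCommutative (POmega F (quadFormPlus m F)) := H858.CgOrth.not_comm_POmega (H198.Carriers.good_plusQ (by omega))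
  exact exists_ne_of h

theorem irr_of_dims {ι : Type} [Fintype ι] [DecidableEq ι] {s : GL ι F} {S : Set ℕ} (h : Dims s S)
    (hS : ∀ d ∈ S, d = 0 ∨ d = Fintype.card ι) :
    ∀ W : Submodule F (ι → F), (∀ v ∈ W, (s : Matrix ι ι F) *ᵥ v ∈ W) → W = ⊥ ∨ W = ⊤ := by
  intro W hW
  rcases hS _ (h W hW) with h1 | h1
  · exact Or.inl (Submodule.finrank_eq_zero.1 h1)
  · right
    apply Submodule.eq_top_of_finrank_eq
    rw [h1, Module.finrank_fintype_fun_eq_card]

/-- **`PΩ⁻₁₀(2)`.** -/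
theorem spr_minus_ten (hR : S5851Stmt) (hq : Fintype.card F = 2) {a b : F}
    (hab : ∀ z₁ z₂ : F, z₁ ^ 2 + a * z₁ * z₂ + b * z₂ ^ 2 = 0 → z₁ = 0 ∧ z₂ = 0) :
    Spr (POmega F (quadFormMinus 4 F a b)) := by
  have hsim : IsSimpleGroup (POmega F (quadFormMinus 4 F a b)) := S0297.result (F := F) 5 (by norm_num) a b hab
  let e : (Fin 4 ⊕ Fin 4) ⊕ Fin 2 ≃ Fin 10 := Fintype.equivFinOfCardEq (by simp)
  have hs : Sg (reindexForm e (minusForm 4 F a b)) 5 (-1) := by
    refine (sg_minusForm (F := F) 4 hab).congr (LinearEquiv.funCongrLeft F F e.symm) fun v => ?_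
    rw [LieClassical.OmegaReindex.reindexForm_apply]
    congr 1
    funext i
    simp [LinearEquiv.funCongrLeft, LinearMap.funLeft]
  have hminus := Om10.not_plusType hab e
  generalize hQe : reindexForm e (minusForm 4 F a b) = Q at hs hminus
  have hj : ∀ x, quadFormMinus 4 F a b (LinearEquiv.funCongrLeft F F e x) = Q x := by
    intro x
    rw [← hQe, ← coe_minusForm]
    rfl
  have hn : Fintype.card (Fin 10) = 10 := Fintype.card_fin 10
  have hQ' : IsNondegenerateQuadraticForm ⇑Q := isNondeg hs.nondeg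
  obtain ⟨A, hA, oA, dA, bA⟩ := Om10.exA hs hn hq
  obtain ⟨C, hC, oC, ⟨P, hker⟩, dC⟩ := Om10.exC hs hn hq
  have dA' : Dims A {0, 10} := Om10.Dims.of_pow dA
  have hirr := irr_of_dims dA' (by
    intro d hd
    rw [hn]
    simpa using hd)
  refine spr_irr (LinearEquiv.funCongrLeft F F e) hj (hna_minus (m := 5) (by norm_num) hab) hA hirr
    (r₁ := 2) (r₂ := 2) (by rw [oA]; decide) (by rw [oA]; decide) ?_ ?_
  · intro H hle hne hsH
    obtain ⟨M, hM, hHM⟩ := H905.exists_isMaximalIn_of_lt (lt_of_le_of_ne hle hne)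
    rcases Om10.cases_max hQ' hminus hq hM with h | ⟨D, hD, h⟩ | ⟨K, hK, h⟩ | h
    · obtain ⟨W, h0, h1, hW⟩ := h
      exfalso
      rcases hirr W (fun v hv => (hW (hHM hsH) v).1 hv) with h | h
      · exact h0 h
      · exact h1 h
    · exfalso
      refine Om10.no_decomp hD ((decompositionStabilizer D).pow_mem (h (hHM hsH)) 3) ?_ (Om10.Dims.mono dA ?_)
      · rw [orderOf_pow_of_dvd (by norm_num) (by rw [oA]; norm_num), oA]
        decide
      · intro d hd
        simp only [Set.mem_insert_iff, Set.mem_singleton_iff, Set.mem_ofPred_eq] at hd ⊢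
        omega
    · exact ⟨2, K, Or.inl rfl, hK, hHM.trans h⟩
    · exact absurd oA (Om10.residual hR hQ' hminus hq hM h (hHM hsH)).2
  · intro r E hr hE hle
    have hr2 : r = 2 := by omega
    subst hr2
    have h1 := kill hE (hle hC) (Nat.coprime_two_right.2 oC) P
    exact (Nat.not_even_iff_odd.2 hker) (even_iff_two_dvd.2 h1)

theorem two_unique {s : GL (Fin 10) F} (hs : Dims s {0, 2, 8, 10})
    {W : Submodule F (Fin 10 → F)} (hW : ∀ w ∈ W, (s : Matrix (Fin 10) (Fin 10) F) *ᵥ w ∈ W) (h2 : finrank F W = 2)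
    (U : Submodule F (Fin 10 → F)) (hU : ∀ w ∈ U, (s : Matrix (Fin 10) (Fin 10) F) *ᵥ w ∈ U) (hU2 : finrank F U = 2) :
    U = W := by
  have h1 := hs (U ⊔ W) (by
    intro w hw
    obtain ⟨a, ha, b, hb, rfl⟩ := Submodule.mem_sup.1 hw
    rw [Matrix.mulVec_add]
    exact Submodule.add_mem_sup (hU a ha) (hW b hb))
  have h3 : finrank F ↥(U ⊔ W) = 2 := by
    have h4 := Submodule.finrank_sup_add_finrank_inf_eq U W
    have h5 := Submodule.finrank_mono (le_sup_left : U ≤ U ⊔ W)
    simp only [Set.mem_insert_iff, Set.mem_singleton_iff] at h1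
    omega
  have h4 : U = U ⊔ W := Submodule.eq_of_le_of_finrank_eq le_sup_left (by rw [hU2, h3])
  have h5 : W = U ⊔ W := Submodule.eq_of_le_of_finrank_eq le_sup_right (by rw [h2, h3])
  rw [h4, ← h5]

/-- reducible groups over `neg 4 + neg 1` -/
theorem exists_plane {Q : QuadraticForm F (Fin 10 → F)} (hQ : Nondeg Q) {s : GL (Fin 10) F}
    (hs : Dims s {0, 2, 8, 10}) {H : Subgroup (GL (Fin 10) F)} (hH : H ≤ isometryGroup F ⇑Q) (hR : Red H)
    (hsH : s ∈ H) : ∃ U : Submodule F (Fin 10 → F),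
      (∀ z ∈ H, ∀ w ∈ U, (z : Matrix (Fin 10) (Fin 10) F) *ᵥ w ∈ U) ∧ finrank F U = 2 := by
  obtain ⟨U, h0, h1, hU⟩ := hR
  have hinv : ∀ z ∈ H, ∀ w ∈ U, (z : Matrix (Fin 10) (Fin 10) F) *ᵥ w ∈ U := fun z hz w hw => (hU hz w).1 hw
  have hd := hs U (hinv s hsH)
  have hlt := Submodule.finrank_lt h1
  rw [Module.finrank_fintype_fun_eq_card, Fintype.card_fin] at hlt
  have hpos := Nat.pos_of_ne_zero fun h => h0 (Submodule.finrank_eq_zero.1 h)
  simp only [Set.mem_insert_iff, Set.mem_singleton_iff] at hd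
  rcases (show finrank F U = 2 ∨ finrank F U = 8 by omega) with h | h
  · exact ⟨U, hinv, h⟩
  · refine ⟨H989.Cov.prp Q U, fun z hz => H989.Cov.prp_inv (hH hz) (hinv _ (H.inv_mem hz)), ?_⟩
    rw [H989.Cov.finrank_prp hQ, h, Fintype.card_fin]

theorem le_stab_of_inv {ι : Type} [Fintype ι] [DecidableEq ι] {H : Subgroup (GL ι F)} {U : Submodule F (ι → F)}
    (hU : ∀ z ∈ H, ∀ w ∈ U, (z : Matrix ι ι F) *ᵥ w ∈ U) : H ≤ subspaceStabilizer U := by
  intro z hz w
  refine ⟨fun hw => hU z hz w hw, fun hw => ?_⟩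
  have hw' : (z : Matrix ι ι F) *ᵥ w ∈ U := hw
  have h3 := hU z⁻¹ (H.inv_mem hz) _ hw'
  rwa [Matrix.mulVec_mulVec, ← Units.val_mul, inv_mul_cancel, Units.val_one, Matrix.one_mulVec] at h3

/-- **`PΩ⁺₁₀(2)`.** -/
theorem spr_plus_ten (hR : S5848Stmt) (hq : Fintype.card F = 2) : Spr (POmega F (quadFormPlus 5 F)) := by
  have hsim : IsSimpleGroup (POmega F (quadFormPlus 5 F)) := S0296.result (F := F) 5 (by norm_num)
  let e : Fin 5 ⊕ Fin 5 ≃ Fin 10 := Fintype.equivFinOfCardEq (by simp)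
  have hs : Sg (reindexForm e (plusForm 5 F)) 5 1 := by
    refine (sg_plusForm (F := F) 5).congr (LinearEquiv.funCongrLeft F F e.symm) fun v => ?_
    rw [LieClassical.OmegaReindex.reindexForm_apply]
    congr 1
    funext i
    simp [LinearEquiv.funCongrLeft, LinearMap.funLeft]
  have hplus := plusType (F := F) e (Fintype.card_fin 10)
  generalize hQe : reindexForm e (plusForm 5 F) = Q at hs hplus
  have hj : ∀ x, quadFormPlus 5 F (LinearEquiv.funCongrLeft F F e x) = Q x := by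
    intro x
    rw [← hQe, ← coe_plusForm]
    rfl
  have hn : Fintype.card (Fin 10) = 10 := Fintype.card_fin 10
  have hQ' : IsNondegenerateQuadraticForm ⇑Q := isNondeg hs.nondeg
  have h5 : 5 ≤ Fintype.card (Fin 10) := by rw [hn]; norm_num
  obtain ⟨A, hA, -, dA⟩ := exNN (a := 4) (e := 1) (M := 17) (N := 3) hs h5 rfl (by norm_num) (by norm_num)
    (by rw [hq]; norm_num) (by decide) (by
      rw [hq]
      intro j h1 h2
      interval_cases j <;> decide) (by rw [hq]; norm_num) (by decide) (by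
      rw [hq]
      intro j h1 h2
      interval_cases j; decide) (by decide)
  obtain ⟨B, hB, -, dB⟩ := exNN (a := 3) (e := 2) (M := 9) (N := 5) hs h5 rfl (by norm_num) (by norm_num)
    (by rw [hq]; norm_num) (by decide) (by
      rw [hq]
      intro j h1 h2
      interval_cases j <;> decide) (by rw [hq]; norm_num) (by decide) (by
      rw [hq]
      intro j h1 h2
      interval_cases j <;> decide) (by decide)
  have dA' : Dims A {0, 2, 8, 10} := by
    intro W hW
    have := dA W hW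
    simp only [Set.mem_insert_iff, Set.mem_singleton_iff] at this ⊢
    omega
  have hna := hna_plus (F := F) (m := 5) (by norm_num)
  by_cases hW : ∃ W : Submodule F (Fin 10 → F), (∀ w ∈ W, (A : Matrix (Fin 10) (Fin 10) F) *ᵥ w ∈ W) ∧ finrank F W = 2
  · obtain ⟨W, hW, h2⟩ := hW
    refine spr_one (LinearEquiv.funCongrLeft F F e) hj hna hA (M := subspaceStabilizer W) ?_ ?_ ?_
    · intro z _ hzA
      exact mem_stab_of_unique hW (fun U hU hU2 => two_unique dA' hW h2 U hU (hU2.trans h2)) hzA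
    · intro hle
      have h3 := dB W (fun w hw => (hle hB w).1 hw)
      rw [h2] at h3
      simp at h3
    · intro H hle hne hsH
      obtain ⟨U, hU, hU2⟩ := exists_plane hs.nondeg dA' (hle.trans (omegaGL_le _))
        (red_two hR hQ' hplus hq hle hne) hsH
      rw [← two_unique dA' hW h2 U (hU A hsH) hU2]
      exact le_stab_of_inv hU
  · exfalso
    refine false_of_none (LinearEquiv.funCongrLeft F F e) hj hna hA fun H hle hne hsH => hW ?_
    obtain ⟨U, hU, hU2⟩ := exists_plane hs.nondeg dA' (hle.trans (omegaGL_le _))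
      (red_two hR hQ' hplus hq hle hne) hsH
    exact ⟨U, hU A hsH, hU2⟩

end Cfsg.Agent.H172.TH
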