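import Cfsg.Agent.H248.Cov.Spr8
import Cfsg.Agent.H383.Cov.Parity

/-!
# S3938: the fields of matrices centralised by an irreducible element (helper172)
-/

set_option autoImplicit false
set_option linter.unusedSectionVars false
set_option linter.style.haveILetI false

namespace Cfsg.Agent.H172.TH

open Cfsg Cfsg.Geo Module
open Cfsg.Agent.H248.Cov (comm_of_irr)
open scoped MatrixGroups Matrix

variable {ι : Type} [Fintype ι] [DecidableEq ι] {F : Type} [Field F] [Fintype F]

theorem card_field {r : ℕ} {K : Subalgebra F (Matrix ι ι F)} (hK : IsFieldSubalgebra r K) :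
    Nat.card K = Nat.card F ^ r := by
  rw [Module.natCard_eq_pow_finrank (K := F), hK.finrank_eq]

theorem pow_card_field [Nonempty ι] {r : ℕ} {K : Subalgebra F (Matrix ι ι F)} (hK : IsFieldSubalgebra r K)
    {k : Matrix ι ι F} (hk : k ∈ K) : k ^ (Nat.card F ^ r) = k := by
  have hf : IsField K :=
    { exists_pair_ne := ⟨0, 1, zero_ne_one⟩
      mul_comm := fun x y => Subtype.ext (hK.comm _ x.2 _ y.2)
      mul_inv_cancel := fun {x} hx => by
        obtain ⟨y, hy, hxy⟩ := hK.inv _ x.2 (fun h => hx (Subtype.ext h))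
        exact ⟨⟨y, hy⟩, Subtype.ext hxy⟩ }
  letI := hf.toField
  haveI : Finite K := Subtype.finite
  letI := Fintype.ofFinite K
  have h1 := FiniteField.pow_card (K := K) ⟨k, hk⟩
  rw [← Nat.card_eq_fintype_card, card_field hK] at h1
  exact congrArg Subtype.val h1

theorem ncard_le {R : Type*} [CommRing R] [IsDomain R] [Finite R] {N : ℕ} (hN : 1 < N) :
    {c : R | c ^ N = c}.ncard ≤ N := by
  classical
  let P : Polynomial R := Polynomial.X ^ N - Polynomial.X
  have hd : P.natDegree = N := by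
    have h1 : (Polynomial.X : Polynomial R).natDegree < (Polynomial.X ^ N : Polynomial R).natDegree := by
      rw [Polynomial.natDegree_X_pow, Polynomial.natDegree_X]
      exact hN
    rw [show P = Polynomial.X ^ N - Polynomial.X from rfl, Polynomial.natDegree_sub_eq_left_of_natDegree_lt h1,
      Polynomial.natDegree_X_pow]
  have hP : P ≠ 0 := by
    intro h
    rw [h, Polynomial.natDegree_zero] at hd
    omega
  have h1 : {c : R | c ^ N = c} ⊆ (P.roots.toFinset : Set R) := by
    intro c hc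
    rw [Finset.mem_coe, Multiset.mem_toFinset, Polynomial.mem_roots hP, Polynomial.IsRoot.def, Polynomial.eval_sub,
      Polynomial.eval_pow, Polynomial.eval_X]
    exact sub_eq_zero.2 hc
  calc {c : R | c ^ N = c}.ncard ≤ (P.roots.toFinset : Set R).ncard := Set.ncard_le_ncard h1 (Set.toFinite _)
    _ = P.roots.toFinset.card := Set.ncard_coe_finset _
    _ ≤ Multiset.card P.roots := Multiset.toFinset_card_le _
    _ ≤ P.natDegree := Polynomial.card_roots' P
    _ = N := hd

theorem field_unique [Nonempty ι] {r : ℕ} {y : GL ι F}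
    (hirr : ∀ W : Submodule F (ι → F), (∀ v ∈ W, (y : Matrix ι ι F) *ᵥ v ∈ W) → W = ⊥ ∨ W = ⊤)
    {K L : Subalgebra F (Matrix ι ι F)} (hK : IsFieldSubalgebra r K) (hL : IsFieldSubalgebra r L)
    (hyK : ∀ k ∈ K, (y : Matrix ι ι F) * k = k * y) (hyL : ∀ k ∈ L, (y : Matrix ι ι F) * k = k * y) : K = L := by
  -- the centraliser is a domain
  obtain ⟨C, hC⟩ : ∃ C : Subalgebra F (Matrix ι ι F), ∀ c : Matrix ι ι F, c ∈ C ↔ (y : Matrix ι ι F) * c = c * y := by
    refine ⟨Subalgebra.centralizer F {(y : Matrix ι ι F)}, fun c => ?_⟩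
    rw [Subalgebra.mem_centralizer_iff]
    exact ⟨fun h => h _ rfl, by rintro h _ rfl; exact h⟩
  have hz : ∀ a : Matrix ι ι F, (y : Matrix ι ι F) * a = a * y → (∃ v, v ≠ 0 ∧ a *ᵥ v = 0) → a = 0 := by
    intro a ha ⟨v, hv, hv0⟩
    rcases hirr (LinearMap.ker (Matrix.toLin' a)) (fun w hw => by
      rw [LinearMap.mem_ker, Matrix.toLin'_apply] at hw ⊢
      rw [Matrix.mulVec_mulVec, ← ha, ← Matrix.mulVec_mulVec, hw, Matrix.mulVec_zero]) with h | h
    · exfalso
      apply hv
      rw [← Submodule.mem_bot F, ← h, LinearMap.mem_ker, Matrix.toLin'_apply]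
      exact hv0
    · apply Matrix.toLin'.injective
      rw [map_zero]
      exact LinearMap.ker_eq_top.1 h
  letI : CommRing C := { (inferInstance : Ring C) with
    mul_comm := fun a b => Subtype.ext (comm_of_irr hirr ((hC _).1 a.2) ((hC _).1 b.2)) }
  haveI : Nontrivial C := ⟨⟨0, 1, fun h => zero_ne_one (congrArg Subtype.val h)⟩⟩
  haveI : NoZeroDivisors C := ⟨fun {a b} h => by
    by_cases hb : (b : Matrix ι ι F) = 0
    · exact Or.inr (Subtype.ext hb)
    · left
      apply Subtype.ext
      have h1 : (a : Matrix ι ι F) * b = 0 := congrArg Subtype.val h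
      obtain ⟨w, hw⟩ : ∃ w, (b : Matrix ι ι F) *ᵥ w ≠ 0 := by
        by_contra hcon
        push Not at hcon
        apply hb
        apply Matrix.toLin'.injective
        apply LinearMap.ext
        intro w
        rw [Matrix.toLin'_apply, hcon, map_zero, LinearMap.zero_apply]
      exact hz _ ((hC _).1 a.2) ⟨_, hw, by rw [Matrix.mulVec_mulVec, h1, Matrix.zero_mulVec]⟩⟩
  haveI : IsDomain C := NoZeroDivisors.to_isDomain C
  haveI : Finite C := Subtype.finite
  have hle : ∀ {K : Subalgebra F (Matrix ι ι F)}, IsFieldSubalgebra r K →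
      (∀ k ∈ K, (y : Matrix ι ι F) * k = k * y) → (K : Set (Matrix ι ι F)) ⊆ (C : Set (Matrix ι ι F)) :=
    fun _ hy k hk => (hC k).2 (hy k hk)
  have hq : 1 < Nat.card F ^ r := by
    rw [← card_field hK]
    haveI : Nontrivial K := ⟨⟨0, 1, fun h => zero_ne_one (congrArg Subtype.val h)⟩⟩
    exact Finite.one_lt_card
  obtain ⟨S, hS, hSc⟩ : ∃ S : Set C, (∀ c, c ∈ S ↔ c ^ (Nat.card F ^ r) = c) ∧ S.ncard ≤ Nat.card F ^ r :=
    ⟨{c | c ^ (Nat.card F ^ r) = c}, fun _ => Iff.rfl, ncard_le hq⟩
  have key : ∀ {K : Subalgebra F (Matrix ι ι F)}, IsFieldSubalgebra r K →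
      (∀ k ∈ K, (y : Matrix ι ι F) * k = k * y) → (K : Set (Matrix ι ι F)) = Subtype.val '' S := by
    intro K hK hyK
    have h1 : (K : Set (Matrix ι ι F)) ⊆ Subtype.val '' S := by
      intro k hk
      exact ⟨⟨k, hle hK hyK hk⟩, (hS _).2 (Subtype.ext (pow_card_field hK hk)), rfl⟩
    apply Set.eq_of_subset_of_ncard_le h1 _ (Set.toFinite _)
    rw [Set.ncard_image_of_injective _ Subtype.val_injective]
    have h2 : (K : Set (Matrix ι ι F)).ncard = Nat.card F ^ r := by
      rw [← card_field hK]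
      exact (Nat.card_coe_set_eq _).symm
    omega
  apply SetLike.coe_injective
  rw [key hK hyK, key hL hyL]

end Cfsg.Agent.H172.TH
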